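import Cfsg.Agent.H7.M24Fam

/-!
H7.Mathieu: the subgroups `H23, H22, H21, H12, H11` of `M24` (point and dodecad stabilisers): orders, generators
(`S23.gs 0`, `S23.gs 1`, `S23.gs 2 = (S23.gs 1)⁻¹`, ...; `S23_gen`), bases, simplicity; simplicity of `M24`.
Point systems `S23 S22 S21 S11 P12 : Sys H GolayPt`; `S12` acts on duads. Permutations of the generators (images of the codes 0..23)
are listed in comments.
-/

namespace H7
open Cfsg MulAction
open scoped Pointwise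

def chDuad : List Level := [(0, 5, [[0], [1], [2]]),
  (1, 6, [[0, 4, 1, 3, 1, 4], [0, 1, 0, 0, 1]]),
  (3, 5, [[4, 1, 0, 4, 3, 2, 2, 3, 1], [0, 2, 0, 2, 0, 2]]),
  (6, 4, [[1, 3, 4, 4, 0, 4, 4, 3, 3, 1, 4], [0, 0, 0, 2, 1, 2, 0, 1, 3, 3, 3]]),
  (10, 2, [[3, 4, 1, 0, 0, 0, 4, 3, 4, 4, 0, 4, 0, 4], [2, 3, 1, 0, 2, 0, 4, 3, 3, 4, 0, 0, 4, 4], [3, 2, 0, 4, 1, 3, 3, 3, 2, 0, 2, 3]]),
  (15, 2, [[2, 2, 3, 3, 2, 0, 0, 2, 3, 4, 3, 1, 0, 4]])]

theorem chDuad_eq : chainLB SDuad.n 6 SDuad.Ns chDuad = 244823040 := by decide +kernel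

theorem SDuad_gen (K : Subgroup M24) (h : ∀ a < 5, SDuad.gs a ∈ K) : K = ⊤ :=
  Sys.eq_of_chain_letters (S := SDuad) SDuad_inj (kp := 6) (by decide) chDuad (by decide +kernel) ⊤ K le_top h
    (by rw [chDuad_eq, Subgroup.card_top, card_M24])

theorem SDuad_base : IsBase (⊤ : Subgroup M24) SDuad.dec [0, 1, 3, 6, 10, 15] :=
  Sys.isBase_of_chain (S := SDuad) SDuad_inj (kp := 6) (by decide) chDuad ⊤ (fun _ _ _ _ => trivial)
    (by rw [chDuad_eq, Subgroup.card_top, card_M24])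

theorem SDuad_simple : IsSimpleGroup M24 :=
  Sys.simple_pack (S := SDuad) SDuad_inj (kp := 6) (by decide) SDuad_gen SDuad_base (D := (nat_lit 0xfffffffffffffffffffffffffffffffffffffffffffffffffffffffffffffffffffff)) (b := 0) (r := 3)
    (by decide +kernel) (by decide +kernel) (by decide +kernel) (hs := [[0, 4, 1, 3, 1, 4], [0, 1, 0, 0, 1]])
    (mc := [(231, 5, [0]), (275, 9, [1])]) (by decide +kernel) (p := 23) (k := 1) (by norm_num) (by norm_num)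
    (by decide +kernel) (by rw [card_M24]; norm_num) (kc := [(0, []), (1, [0, 0]), (2, [0, 1, 3, 2]), (3, [0]), (4, [2, 0, 1, 3, 2])])
    (by decide +kernel) (by decide)

/-- [1, 0, 10, 7, 12, 22, 6, 3, 21, 9, 2, 14, 4, 19, 11, 15, 16, 17, 18, 13, 20, 8, 5, 23] -/
def n23a : Net := (Net.cons (nat_lit 1) (nat_lit 0x504001)
  (Net.cons (nat_lit 2) (nat_lit 0x220000)
  (Net.cons (nat_lit 4) (nat_lit 0x10a08)
  (Net.cons (nat_lit 8) (nat_lit 0x17)
  (Net.cons (nat_lit 16) (nat_lit 0x23)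
  (Net.cons (nat_lit 8) (nat_lit 0x3)
  (Net.cons (nat_lit 4) (nat_lit 0x10200)
  (Net.cons (nat_lit 2) (nat_lit 0x220000)
  (Net.cons (nat_lit 1) (nat_lit 0x504000)
  Net.nil)))))))))

/-- [19, 11, 1, 22, 6, 2, 21, 14, 3, 16, 7, 0, 20, 9, 15, 8, 10, 5, 4, 12, 13, 17, 18, 23] -/
def n23b : Net := (Net.cons (nat_lit 1) (nat_lit 0x545141)
  (Net.cons (nat_lit 2) (nat_lit 0x111333)
  (Net.cons (nat_lit 4) (nat_lit 0x80409)
  (Net.cons (nat_lit 8) (nat_lit 0xa7)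
  (Net.cons (nat_lit 16) (nat_lit 0x6d)
  (Net.cons (nat_lit 8) (nat_lit 0x24)
  (Net.cons (nat_lit 4) (nat_lit 0x60800)
  (Net.cons (nat_lit 2) (nat_lit 0x121100)
  (Net.cons (nat_lit 1) (nat_lit 0x401110)
  Net.nil)))))))))

noncomputable def N23 : List Net := [n23a, n23b, n23b.rev]

theorem N23_cert : allL m24Cert N23 = true := by decide +kernel

theorem N23_mem (a : ℕ) : (ptSys N23 N23_cert).gs a ∈ H23 :=
  mem_H23 (gs_fix N23_cert (m := 3) (by decide +kernel) rfl a)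

noncomputable def S23 : Sys H23 GolayPt := (ptSys N23 N23_cert).restrict H23 N23_mem

def ch23 : List Level := [(0, 6, [[0], [1]]),
  (1, 4, [[0, 2, 2], [2, 2, 2, 2, 0, 1]]),
  (2, 4, [[0, 1, 0, 2, 0, 1, 1, 1, 0, 2], [1, 1, 1, 0, 1, 0, 1, 1, 0, 1]]),
  (3, 4, [[0, 2, 2, 0, 1, 0, 2, 0, 2, 2, 0, 1, 0, 2, 2, 0], [0, 2, 2, 2, 0, 1, 0, 2, 2, 0, 2, 0, 2, 0, 2, 0]]),
  (4, 2, [[0, 1, 0, 2, 0, 2, 0, 1, 1, 1, 1, 1, 1, 1, 1, 1, 1, 0, 2], [0, 1, 1, 1, 0, 1, 0, 1, 1, 0, 2, 0, 2, 2, 0, 2, 2, 0, 2, 2], [1, 0, 2, 0, 1, 0, 2, 2, 2, 2, 2, 2, 2, 0, 1, 1, 1, 1, 1, 1]]),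
  (5, 2, [[1, 0, 2, 0, 2, 2, 0, 2, 2, 0, 2, 0, 1, 1, 1, 1, 1, 0, 2, 0, 2]])]

theorem ch23_eq : chainLB S23.n 2 S23.Ns ch23 = 10200960 := by decide +kernel

theorem S23_gen (K : Subgroup H23) (h : ∀ a < 3, S23.gs a ∈ K) : K = ⊤ :=
  Sys.eq_of_chain_letters (S := S23) gC.inj (kp := 2) (by decide) ch23 (by decide +kernel) ⊤ K le_top h
    (by rw [ch23_eq, Subgroup.card_top, card_H23])

theorem S23_base : IsBase (⊤ : Subgroup H23) S23.dec [0, 1, 2, 3, 4, 5] :=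
  Sys.isBase_of_chain (S := S23) gC.inj (kp := 2) (by decide) ch23 ⊤ (fun _ _ _ _ => trivial)
    (by rw [ch23_eq, Subgroup.card_top, card_H23])

theorem S23_simple : IsSimpleGroup H23 :=
  Sys.simple_pack (S := S23) gC.inj (kp := 2) (by decide) S23_gen S23_base (D := (nat_lit 0x7fffff)) (b := 0) (r := 4)
    (by decide +kernel) (by decide +kernel) (by decide +kernel) (hs := [[0, 2, 2], [2, 2, 2, 2, 0, 1]])
    (mc := [(1, 4, [0])]) (by decide +kernel) (p := 23) (k := 1) (by norm_num) (by norm_num)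
    (by decide +kernel) (by rw [card_H23]; norm_num) (kc := [(0, [1, 1, 1, 1, 1]), (1, []), (2, [1])])
    (by decide +kernel) (by decide)

/-- [0, 4, 22, 21, 1, 5, 6, 7, 15, 12, 20, 18, 9, 13, 19, 8, 16, 17, 11, 14, 10, 3, 2, 23] -/
def n22a : Net := (Net.cons (nat_lit 1) (nat_lit 0x40110)
  (Net.cons (nat_lit 2) (nat_lit 0x213100)
  (Net.cons (nat_lit 4) (nat_lit 0xd0f02)
  (Net.cons (nat_lit 8) (nat_lit 0x91)
  (Net.cons (nat_lit 16) (nat_lit 0x9d)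
  (Net.cons (nat_lit 8) (nat_lit 0x91)
  (Net.cons (nat_lit 4) (nat_lit 0xc0800)
  (Net.cons (nat_lit 2) (nat_lit 0x213100)
  (Net.cons (nat_lit 1) (nat_lit 0x40110)
  Net.nil)))))))))

/-- [0, 9, 2, 5, 14, 7, 10, 15, 17, 3, 8, 16, 11, 18, 22, 21, 6, 12, 19, 20, 4, 1, 13, 23] -/
def n22b : Net := (Net.cons (nat_lit 1) (nat_lit 0x11000)
  (Net.cons (nat_lit 2) (nat_lit 0x11020)
  (Net.cons (nat_lit 4) (nat_lit 0x10408)
  (Net.cons (nat_lit 8) (nat_lit 0xa4)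
  (Net.cons (nat_lit 16) (nat_lit 0x76)
  (Net.cons (nat_lit 8) (nat_lit 0x76)
  (Net.cons (nat_lit 4) (nat_lit 0x60800)
  (Net.cons (nat_lit 2) (nat_lit 0x12300)
  (Net.cons (nat_lit 1) (nat_lit 0x41000)
  Net.nil)))))))))

noncomputable def N22 : List Net := [n22a, n22b, n22b.rev]

theorem N22_cert : allL m24Cert N22 = true := by decide +kernel

theorem N22_mem (a : ℕ) : (ptSys N22 N22_cert).gs a ∈ H22 :=
  mem_H22 (gs_fix N22_cert (m := 3) (by decide +kernel) rfl a)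

noncomputable def S22 : Sys H22 GolayPt := (ptSys N22 N22_cert).restrict H22 N22_mem

def ch22 : List Level := [(1, 6, [[0], [1]]),
  (2, 4, [[0, 1, 1, 0, 1, 0], [2, 2, 0, 2]]),
  (3, 3, [[0, 2, 2, 2, 0, 2, 2, 0, 1, 0], [2, 0, 2, 0, 2, 2, 0, 2, 0, 2, 2]]),
  (4, 2, [[2, 2, 2, 0, 2, 0, 1, 0, 1, 1, 1], [2, 0, 2, 2, 2, 0, 1, 0, 2, 0, 2, 0, 1, 0, 1, 0], [0, 1, 0, 2, 2, 2, 2, 2, 0, 2, 2, 0, 2, 0]]),
  (5, 2, [[2, 0, 2, 2, 0, 2, 0, 2, 2, 2, 0, 1, 0, 2, 0, 1, 0, 1, 0, 2, 0, 1]])]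

theorem ch22_eq : chainLB S22.n 2 S22.Ns ch22 = 443520 := by decide +kernel

theorem S22_gen (K : Subgroup H22) (h : ∀ a < 3, S22.gs a ∈ K) : K = ⊤ :=
  Sys.eq_of_chain_letters (S := S22) gC.inj (kp := 2) (by decide) ch22 (by decide +kernel) ⊤ K le_top h
    (by rw [ch22_eq, Subgroup.card_top, card_H22])

theorem S22_base : IsBase (⊤ : Subgroup H22) S22.dec [1, 2, 3, 4, 5] :=
  Sys.isBase_of_chain (S := S22) gC.inj (kp := 2) (by decide) ch22 ⊤ (fun _ _ _ _ => trivial)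
    (by rw [ch22_eq, Subgroup.card_top, card_H22])

theorem S22_simple : IsSimpleGroup H22 :=
  Sys.simple_pack (S := S22) gC.inj (kp := 2) (by decide) S22_gen S22_base (D := (nat_lit 0x7ffffe)) (b := 1) (r := 3)
    (by decide +kernel) (by decide +kernel) (by decide +kernel) (hs := [[0, 1, 1, 0, 1, 0], [2, 2, 0, 2]])
    (mc := [(4, 5, [0])]) (by decide +kernel) (p := 11) (k := 1) (by norm_num) (by norm_num)
    (by decide +kernel) (by rw [card_H22]; norm_num) (kc := [(0, [1, 1, 0, 2, 0, 2, 2, 2]), (1, [0, 1, 0, 2, 2, 0]), (2, [1, 0, 1, 0, 2, 2, 0])])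
    (by decide +kernel) (by decide)

/-- [0, 1, 9, 3, 8, 7, 11, 5, 4, 2, 20, 6, 12, 19, 16, 15, 14, 18, 17, 13, 10, 21, 22, 23] -/
def n21a : Net := (Net.cons (nat_lit 1) (nat_lit 0x14150)
  (Net.cons (nat_lit 2) (nat_lit 0x32110)
  (Net.cons (nat_lit 4) (nat_lit 0x10a00)
  (Net.cons (nat_lit 8) (nat_lit 0xaf)
  (Net.cons (nat_lit 16) (nat_lit 0xb)
  (Net.cons (nat_lit 8) (nat_lit 0xb)
  (Net.cons (nat_lit 4) (nat_lit 0x10a00)
  (Net.cons (nat_lit 2) (nat_lit 0x100)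
  (Net.cons (nat_lit 1) (nat_lit 0x14150)
  Net.nil)))))))))

/-- [0, 1, 18, 14, 13, 4, 3, 16, 2, 6, 5, 12, 8, 17, 21, 22, 15, 10, 11, 7, 20, 9, 19, 23] -/
def n21b : Net := (Net.cons (nat_lit 1) (nat_lit 0x515514)
  (Net.cons (nat_lit 2) (nat_lit 0x320310)
  (Net.cons (nat_lit 4) (nat_lit 0x80e04)
  (Net.cons (nat_lit 8) (nat_lit 0x7d)
  (Net.cons (nat_lit 16) (nat_lit 0xe5)
  (Net.cons (nat_lit 8) (nat_lit 0x61)
  (Net.cons (nat_lit 4) (nat_lit 0xa0100)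
  (Net.cons (nat_lit 2) (nat_lit 0x312200)
  (Net.cons (nat_lit 1) (nat_lit 0x501100)
  Net.nil)))))))))

noncomputable def N21 : List Net := [n21a, n21b, n21b.rev]

theorem N21_cert : allL m24Cert N21 = true := by decide +kernel

theorem N21_mem (a : ℕ) : (ptSys N21 N21_cert).gs a ∈ H21 :=
  mem_H21 (gs_fix N21_cert (m := 3) (by decide +kernel) rfl a)

noncomputable def S21 : Sys H21 GolayPt := (ptSys N21 N21_cert).restrict H21 N21_mem

def ch21 : List Level := [(2, 5, [[0], [1]]),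
  (3, 4, [[2, 0, 1, 1, 0, 2], [2, 2, 0, 1, 0]]),
  (4, 2, [[1, 0, 2, 0, 2, 2, 0, 2, 2, 0], [0, 2, 0, 2, 0, 1, 0, 1, 0], [0, 2, 2, 0, 1, 1, 0]]),
  (5, 2, [[0, 1, 0, 2, 2, 0, 1, 0, 1, 1, 0, 1, 1, 0, 1, 0]])]

theorem ch21_eq : chainLB S21.n 2 S21.Ns ch21 = 20160 := by decide +kernel

theorem S21_gen (K : Subgroup H21) (h : ∀ a < 3, S21.gs a ∈ K) : K = ⊤ :=
  Sys.eq_of_chain_letters (S := S21) gC.inj (kp := 2) (by decide) ch21 (by decide +kernel) ⊤ K le_top h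
    (by rw [ch21_eq, Subgroup.card_top, card_H21])

theorem S21_base : IsBase (⊤ : Subgroup H21) S21.dec [2, 3, 4, 5] :=
  Sys.isBase_of_chain (S := S21) gC.inj (kp := 2) (by decide) ch21 ⊤ (fun _ _ _ _ => trivial)
    (by rw [ch21_eq, Subgroup.card_top, card_H21])

theorem S21_simple : IsSimpleGroup H21 :=
  Sys.simple_pack (S := S21) gC.inj (kp := 2) (by decide) S21_gen S21_base (D := (nat_lit 0x7ffffc)) (b := 2) (r := 3)
    (by decide +kernel) (by decide +kernel) (by decide +kernel) (hs := [[2, 0, 1, 1, 0, 2], [2, 2, 0, 1, 0]])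
    (mc := [(9, 4, [0])]) (by decide +kernel) (p := 7) (k := 1) (by norm_num) (by norm_num)
    (by decide +kernel) (by rw [card_H21]; norm_num) (kc := [(0, [1, 0, 1]), (1, [0, 1]), (2, [1, 0, 1])])
    (by decide +kernel) (by decide)

/-- [3, 4, 2, 0, 1, 5, 6, 7, 18, 13, 10, 19, 12, 9, 15, 14, 16, 22, 8, 11, 23, 21, 17, 20] -/
def n12a : Net := (Net.cons (nat_lit 1) (nat_lit 0x404014)
  (Net.cons (nat_lit 2) (nat_lit 0x310001)
  (Net.cons (nat_lit 4) (nat_lit 0x20202)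
  (Net.cons (nat_lit 8) (nat_lit 0x9)
  (Net.cons (nat_lit 16) (nat_lit 0x9)
  (Net.cons (nat_lit 8) (nat_lit 0x9)
  (Net.cons (nat_lit 2) (nat_lit 0x210000)
  (Net.cons (nat_lit 1) (nat_lit 0x400014)
  Net.nil))))))))

/-- [8, 2, 3, 16, 6, 21, 0, 10, 18, 1, 22, 19, 4, 9, 5, 23, 13, 14, 12, 17, 7, 11, 15, 20] -/
def n12b : Net := (Net.cons (nat_lit 1) (nat_lit 0x555045)
  (Net.cons (nat_lit 2) (nat_lit 0x23022)
  (Net.cons (nat_lit 4) (nat_lit 0xe08)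
  (Net.cons (nat_lit 8) (nat_lit 0x9f)
  (Net.cons (nat_lit 16) (nat_lit 0xde)
  (Net.cons (nat_lit 8) (nat_lit 0xc6)
  (Net.cons (nat_lit 4) (nat_lit 0x800)
  (Net.cons (nat_lit 2) (nat_lit 0x310000)
  (Net.cons (nat_lit 1) (nat_lit 0x44550)
  Net.nil)))))))))

noncomputable def N12 : List Net := [n12a, n12b, n12b.rev]

theorem N12_cert : allL m24Cert N12 = true := by decide +kernel

theorem N12_mem (a : ℕ) : (ptSys N12 N12_cert).gs a ∈ H12 :=
  mem_H12 (gs_fix N12_cert (m := 3) (by decide +kernel) rfl a)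

noncomputable def SP12 : Sys H12 GolayPt := (ptSys N12 N12_cert).restrict H12 N12_mem

def chP12 : List Level := [(0, 5, [[0], [1]]),
  (1, 6, [[1, 1, 0, 2, 2, 0], [0, 2, 0, 1, 0]]),
  (2, 4, [[2, 2, 0, 1, 0, 2, 0, 1, 1, 1, 0, 2, 2], [2, 0, 2, 2, 0, 1, 0, 1, 1, 0]]),
  (3, 3, [[2, 2, 0, 2, 2, 2, 0, 2, 2, 0, 2, 0, 1, 1], [2, 0, 0, 1, 0, 1, 0, 2, 2, 0, 1, 0]]),
  (4, 2, [[1, 0, 1, 1, 0, 1, 0, 2, 0, 1, 1, 0, 2, 2, 0, 1, 1], [2, 0, 1, 1, 0, 2, 2, 0, 1, 1, 1, 0, 2, 2, 0, 2, 0, 1]])]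

theorem chP12_eq : chainLB SP12.n 2 SP12.Ns chP12 = 95040 := by decide +kernel

theorem SP12_gen (K : Subgroup H12) (h : ∀ a < 3, SP12.gs a ∈ K) : K = ⊤ :=
  Sys.eq_of_chain_letters (S := SP12) gC.inj (kp := 2) (by decide) chP12 (by decide +kernel) ⊤ K le_top h
    (by rw [chP12_eq, Subgroup.card_top, card_H12])

theorem SP12_base : IsBase (⊤ : Subgroup H12) SP12.dec [0, 1, 2, 3, 4] :=
  Sys.isBase_of_chain (S := SP12) gC.inj (kp := 2) (by decide) chP12 ⊤ (fun _ _ _ _ => trivial)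
    (by rw [chP12_eq, Subgroup.card_top, card_H12])

def d12a : Net := (Net.cons (nat_lit 1) (nat_lit 0x400004555504500514554111441000440044014001000400504514401014501015104)
  (Net.cons (nat_lit 2) (nat_lit 0x22201011030001320020300032300200120001102230312221100321012321033210)
  (Net.cons (nat_lit 4) (nat_lit 0x60b080b040d080604030401030c0a0a0003020a0d030b09070c0e06010706010602)
  (Net.cons (nat_lit 8) (nat_lit 0x4700fd000100200047003a0072007d00050065007d004d008c0060001100740009)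
  (Net.cons (nat_lit 16) (nat_lit 0xd0000017800000029000041f6000001780000e6da00001d930000e08200001010)
  (Net.cons (nat_lit 32) (nat_lit 0x1dae0030000000006019fb7d0000000082ce6f870000000000009011)
  (Net.cons (nat_lit 64) (nat_lit 0xe001ff877c8fffcf000000000000000000860f8600049011)
  (Net.cons (nat_lit 128) (nat_lit 0x826005f9091fe20078820dffff)
  (Net.cons (nat_lit 256) (nat_lit 0xdffff)
  (Net.cons (nat_lit 128) (nat_lit 0xdffff)
  (Net.cons (nat_lit 64) (nat_lit 0x82600dffcf00000000000000000000000000049001)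
  (Net.cons (nat_lit 32) (nat_lit 0x1c860008000000006001fb7d0000000000866f860000000000009011)
  (Net.cons (nat_lit 16) (nat_lit 0x4000001100000000000004170000001780000a34800000d110000800000000010)
  (Net.cons (nat_lit 8) (nat_lit 0x500fc000100200005003a0072007c000500650049004d008c0060000000140000)
  (Net.cons (nat_lit 4) (nat_lit 0x60b0809040d000004030401030d00080001000b0002030807000e06000606010000)
  (Net.cons (nat_lit 2) (nat_lit 0x22201011010001320020310022302000100000013121012021100221010101013200)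
  (Net.cons (nat_lit 1) (nat_lit 0x400004555504400514554111441000440040014001000400504514401014501015104)
  Net.nil)))))))))))))))))

def d12b : Net := (Net.cons (nat_lit 1) (nat_lit 0x515515405154155451014150405151041405511151445055414014414141400154511)
  (Net.cons (nat_lit 2) (nat_lit 0x310202331311331203302003130313321032321011302302301013221320230033311)
  (Net.cons (nat_lit 4) (nat_lit 0x60f080b0b0f0005060d060f030e09090f070f0d0a080c040403070e070e0b03090b)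
  (Net.cons (nat_lit 8) (nat_lit 0x85005b00b100ed004e00e800f9000b00bf00f8002500d800de001e000900bb0088)
  (Net.cons (nat_lit 16) (nat_lit 0x2000020210000001b0000c5e90000f7010000578e0000154d0000055000006ccf)
  (Net.cons (nat_lit 32) (nat_lit 0x4000048900000000c06487f200000000cfb5681900000000343b3a30)
  (Net.cons (nat_lit 64) (nat_lit 0xc22c534e8beffb7f000000000000000035d9d68e6bbb85f6)
  (Net.cons (nat_lit 128) (nat_lit 0x526871b54e7ed1ffbdd30eeb8bffff)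
  (Net.cons (nat_lit 256) (nat_lit 0xbffff)
  (Net.cons (nat_lit 128) (nat_lit 0x7a09)
  (Net.cons (nat_lit 64) (nat_lit 0xfe6cbb475e45232a000000000000000000000000000bbdf6)
  (Net.cons (nat_lit 32) (nat_lit 0xceb36b01000000008811900900000000150b85f700000000000034c8)
  (Net.cons (nat_lit 16) (nat_lit 0x4000006ae000009370000118200004712000024d000003de30000414200008350)
  (Net.cons (nat_lit 8) (nat_lit 0x1400d3006100b1002b006600f9006d00580024007e00ac003500c300a1009b0008)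
  (Net.cons (nat_lit 4) (nat_lit 0x5030406000201000e0901070c030000010f060a06080b06060c0e04060a0a0a0204)
  (Net.cons (nat_lit 2) (nat_lit 0x10101220302121013220013102113301231221233221311300311231032110232120)
  (Net.cons (nat_lit 1) (nat_lit 0x544441155004015510444105100155055001015544104015540005145055545545540)
  Net.nil)))))))))))))))))

noncomputable def S12 : Sys H12 (Finset GolayPt) :=
  (setSys N12 N12_cert 276 (nthN plDuad) [d12a, d12b, d12b.rev] (by decide +kernel)).restrict H12 N12_mem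

def ch12 : List Level := [(0, 9, [[0], [1]]),
  (2, 5, [[1, 1, 0, 1, 0, 2, 0, 2, 2], [0, 1, 1, 0, 2, 2, 0, 1, 0, 1]]),
  (5, 4, [[0, 2, 0, 2, 0, 1, 0, 1, 1, 1, 0, 1, 0, 2], [0, 1, 0, 2, 0, 2, 0, 0, 1, 0, 2, 0, 1, 0]]),
  (9, 2, [[2, 2, 0, 1, 1, 0, 2, 2, 0, 1, 0, 2, 0, 2, 2, 0, 2], [2, 0, 1, 0, 1, 1, 0, 2, 2, 2, 0, 1, 1, 0, 2, 2, 0, 1]])]

theorem ch12_eq : chainLB S12.n 6 S12.Ns ch12 = 95040 := by decide +kernel

theorem S12_gen (K : Subgroup H12) (h : ∀ a < 3, S12.gs a ∈ K) : K = ⊤ :=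
  Sys.eq_of_chain_letters (S := S12) SDuad_inj (kp := 6) (by decide) ch12 (by decide +kernel) ⊤ K le_top h
    (by rw [ch12_eq, Subgroup.card_top, card_H12])

theorem S12_base : IsBase (⊤ : Subgroup H12) S12.dec [0, 2, 5, 9] :=
  Sys.isBase_of_chain (S := S12) SDuad_inj (kp := 6) (by decide) ch12 ⊤ (fun _ _ _ _ => trivial)
    (by rw [ch12_eq, Subgroup.card_top, card_H12])

theorem S12_simple : IsSimpleGroup H12 :=
  Sys.simple_pack (S := S12) SDuad_inj (kp := 6) (by decide) S12_gen S12_base (D := (nat_lit 0x266be0000335f00000004d7cd7c000015f5f00f83ff)) (b := 0) (r := 6)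
    (by decide +kernel) (by decide +kernel) (by decide +kernel) (hs := [[1, 1, 0, 1, 0, 2, 0, 2, 2], [0, 1, 1, 0, 2, 2, 0, 1, 0, 1]])
    (mc := [(154, 5, [0, 1, 1]), (9, 7, [0])]) (by decide +kernel) (p := 11) (k := 1) (by norm_num) (by norm_num)
    (by decide +kernel) (by rw [card_H12]; norm_num) (kc := [(0, [1, 0, 2, 0, 2, 2, 0, 1, 0, 2, 2]), (1, [0, 1, 1, 0, 2, 0, 1, 1, 0, 2, 0]), (2, [1, 0, 1, 1, 0, 2, 0, 1, 1, 0, 2, 0])])
    (by decide +kernel) (by decide)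

/-- [0, 2, 1, 12, 4, 22, 6, 7, 8, 13, 10, 15, 3, 9, 20, 11, 18, 17, 16, 23, 14, 21, 5, 19] -/
def n11a : Net := (Net.cons (nat_lit 1) (nat_lit 0x450004)
  (Net.cons (nat_lit 2) (nat_lit 0x221002)
  (Net.cons (nat_lit 4) (nat_lit 0x40e00)
  (Net.cons (nat_lit 8) (nat_lit 0x14)
  (Net.cons (nat_lit 16) (nat_lit 0x30)
  (Net.cons (nat_lit 8) (nat_lit 0x10)
  (Net.cons (nat_lit 4) (nat_lit 0x400)
  (Net.cons (nat_lit 2) (nat_lit 0x201000)
  (Net.cons (nat_lit 1) (nat_lit 0x450004)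
  Net.nil)))))))))

/-- [0, 9, 8, 3, 2, 10, 16, 21, 18, 6, 23, 14, 4, 1, 22, 11, 13, 15, 12, 19, 20, 5, 17, 7] -/
def n11b : Net := (Net.cons (nat_lit 1) (nat_lit 0x404440)
  (Net.cons (nat_lit 2) (nat_lit 0x101130)
  (Net.cons (nat_lit 4) (nat_lit 0x50906)
  (Net.cons (nat_lit 8) (nat_lit 0x67)
  (Net.cons (nat_lit 16) (nat_lit 0xf1)
  (Net.cons (nat_lit 8) (nat_lit 0xc1)
  (Net.cons (nat_lit 4) (nat_lit 0x60400)
  (Net.cons (nat_lit 2) (nat_lit 0x301130)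
  (Net.cons (nat_lit 1) (nat_lit 0x414000)
  Net.nil)))))))))

noncomputable def N11 : List Net := [n11a, n11b, n11b.rev]

theorem N11_cert : allL m24Cert N11 = true := by decide +kernel

theorem N11_mem (a : ℕ) : (ptSys N11 N11_cert).gs a ∈ H11 :=
  mem_H11 (gs_fix N11_cert (m := 3) (by decide +kernel) rfl a)

noncomputable def S11 : Sys H11 GolayPt := (ptSys N11 N11_cert).restrict H11 N11_mem

def ch11 : List Level := [(1, 3, [[0], [1]]),
  (2, 3, [[2, 0, 2], [2, 2, 0, 1, 1]]),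
  (3, 3, [[1, 1, 0, 2, 0, 1, 0, 2, 2, 0], [2, 0, 2, 0, 2, 0, 1, 0]]),
  (4, 2, [[2, 2, 0, 2, 2, 0, 1, 0, 1, 0, 1, 1, 0, 2, 2], [1, 0, 2, 2, 0, 2, 2, 0, 2, 0, 2, 0, 2]])]

theorem ch11_eq : chainLB S11.n 2 S11.Ns ch11 = 7920 := by decide +kernel

theorem S11_gen (K : Subgroup H11) (h : ∀ a < 3, S11.gs a ∈ K) : K = ⊤ :=
  Sys.eq_of_chain_letters (S := S11) gC.inj (kp := 2) (by decide) ch11 (by decide +kernel) ⊤ K le_top h
    (by rw [ch11_eq, Subgroup.card_top, card_H11])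

theorem S11_base : IsBase (⊤ : Subgroup H11) S11.dec [1, 2, 3, 4] :=
  Sys.isBase_of_chain (S := S11) gC.inj (kp := 2) (by decide) ch11 ⊤ (fun _ _ _ _ => trivial)
    (by rw [ch11_eq, Subgroup.card_top, card_H11])

theorem S11_simple : IsSimpleGroup H11 :=
  Sys.simple_pack (S := S11) gC.inj (kp := 2) (by decide) S11_gen S11_base (D := (nat_lit 0x5335e)) (b := 1) (r := 3)
    (by decide +kernel) (by decide +kernel) (by decide +kernel) (hs := [[2, 0, 2], [2, 2, 0, 1, 1]])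
    (mc := [(2, 3, [0])]) (by decide +kernel) (p := 11) (k := 1) (by norm_num) (by norm_num)
    (by decide +kernel) (by rw [card_H11]; norm_num) (kc := [(0, [1, 0, 2, 0, 2, 2]), (1, [0, 1, 0, 2, 2, 0]), (2, [1, 0, 1, 0, 2, 2, 0])])
    (by decide +kernel) (by decide)

end H7
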