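import Cfsg.Agent.H7.Out24
import Cfsg.Agent.H7.Ms23
import Cfsg.Agent.H7.T.F3_8
import Cfsg.Agent.H7.T.F3c_0

/-! H7.Ms24a: the triple cover of the commutator subgroup of `Fi24`. -/

set_option maxRecDepth 100000
namespace H7
open Subgroup
open scoped commutatorElement
universe u

theorem wev_congr {G : Type*} [Group G] {f g : ℕ → G} {w : List ℕ} (h : ∀ a ∈ w, f a = g a) : wev f w = wev g w :=
  congrArg List.prod (List.map_congr_left h)

theorem sub_gs {A : Type*} [Group A] (gs : ℕ → A) (S : List ℕ) :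
    ∃ f : ℕ → genW gs (sing S), (∀ a ∈ S, (f a : A) = gs a) ∧ genW f (sing S) = ⊤ := by
  classical
  refine ⟨fun a => if h : a ∈ S then ⟨_, gs_mem_sing h⟩ else 1, fun a h => by simp [h], map_injective (genW gs (sing S)).subtype_injective (le_antisymm (map_mono le_top) ?_)⟩
  rw [← MonoidHom.range_eq_map, range_subtype]
  refine genW_le.2 fun w hw => ?_
  obtain ⟨a, ha, rfl⟩ := List.mem_map.1 hw
  exact ⟨_, gs_mem_sing ha, by simp [ha]⟩

/-- the affine action on the fibres -/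
noncomputable def cyp (Ns : ℕ → Net) (c : ℕ → Tp) (a : ℕ) : Equiv.Perm (ℕ × ZMod 3) := (Ns a).perm.prodShear fun x => Equiv.subLeft (tval (c a) x)
noncomputable def cyw (Ns : ℕ → Net) (c : ℕ → Tp) (w : List ℕ) : Tp → Tp :=
  List.rec (motive := fun _ => Tp → Tp) (fun q => q) (fun a _ ih q => ih (tsm 2 (tadd ((Ns a).app q.1, (Ns a).app q.2) (c a)))) w

theorem cyw_spec {n : ℕ} {Ns : ℕ → Net} (ok : ∀ a, (Ns a).ok n = true) (c : ℕ → Tp) (w : List ℕ) (q : Tp) (y : ℕ × ZMod 3) :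
    (wev (cyp Ns c) w y).1 = wperm Ns w y.1 ∧ tval q (wev (cyp Ns c) w y).1 + (wev (cyp Ns c) w y).2 = (-1) ^ w.length * (tval (cyw Ns c w q) y.1 + y.2) := by
  induction w generalizing q with
  | nil => exact ⟨rfl, (one_mul _).symm⟩
  | cons a w ih =>
    have h := ih (tsm 2 (tadd ((Ns a).app q.1, (Ns a).app q.2) (c a)))
    rw [wev_cons, wperm_cons, Equiv.Perm.mul_apply, Equiv.Perm.mul_apply, ← h.1]
    refine ⟨rfl, ?_⟩
    rw [List.length_cons, pow_succ, mul_comm _ (-1 : ZMod 3), mul_assoc]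
    refine .trans ?_ (congrArg _ h.2)
    generalize wev (cyp Ns c) w y = z
    have : tval ((Ns a).app q.1, (Ns a).app q.2) z.1 = tval q ((Ns a).perm z.1) := by simp only [tval, Net.testBit_app (ok a)]
    rw [tval_sm, tval_add, this]
    change tval q ((Ns a).perm z.1) + (tval (c a) z.1 - z.2) = _
    generalize tval q _ = r; generalize tval (c a) _ = s; generalize z.2 = t; revert r s t; decide

theorem cyw_even {n : ℕ} {Ns : ℕ → Net} (ok : ∀ a, (Ns a).ok n = true) {c : ℕ → Tp} {w : List ℕ} {q : Tp} (h : wperm Ns w = 1) (e : Even w.length)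
    (k : tnz (tadd (cyw Ns c w (0, 0)) (tsm 2 q)) = 0) (y : ℕ × ZMod 3) : wev (cyp Ns c) w y = (y.1, tval q y.1 + y.2) := by
  have s := cyw_spec ok c w (0, 0) y
  have t := (tnz_iff (tadd (cyw Ns c w (0, 0)) (tsm 2 q)) y.1).not
  rw [k, tval_add, tval_sm] at t
  rw [e.neg_one_pow, one_mul, h, show ∀ x, tval (0, 0) x = 0 by simp [tval], zero_add] at s
  refine Prod.ext s.1 (s.2.trans (congrArg (· + y.2) ?_))
  have := not_not.1 (t.1 (by simp))
  revert this; generalize tval q _ = r; generalize tval _ _ = s; revert r s; decide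

namespace T

theorem gsF24 {a : ℕ} (h : a < 12) : F24.gs a = M_Fi24.gs a := by
  have : nthW defs_P24 a = [a] := (by decide +kernel : ∀ a < 12, nthW defs_P24 a = [a]) a h
  rw [F24, ex_P24.choose_spec.1]
  exact (congrArg (wev M_Fi24.gs) this).trans (mul_one _)

noncomputable def R_Y0 : List (List ℕ) := R_YR.take 81
theorem eq_YR : R_YR = R_Y0 ++ [rho_F3] := by decide +kernel
def S12 : List ℕ := [0, 1, 2, 3, 4, 5, 6, 7, 8, 9, 10, 11]
theorem lt_YR : ∀ r ∈ R_YR, ∀ a ∈ r, a ∈ S12 := by decide +kernel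
theorem lt12 {a : ℕ} (h : a ∈ S12) : a < 12 := by simp [S12] at h; omega
theorem relsF24 : Rels F24.gs R_YR := fun r h => (wev_congr fun a k => gsF24 (lt12 (lt_YR r h a k))).trans (relsG_YR r h)

theorem map24 {A : Type u} [Group A] {gs : ℕ → A} {σ : A →* Cfsg.Spor.Fi24} (h : ∀ a ∈ S12, σ (gs a) = F24.gs a) : (genW gs (sing S12)).map σ = ⊤ :=
  eq_top_iff.2 (gen_Fi24.ge.trans (genW_le.2 fun w hw => by
    obtain ⟨a, ha, rfl⟩ := List.mem_map.1 hw
    exact ⟨_, gs_mem_sing ha, by simp [h a ha, gsF24 (lt12 ha)]⟩))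

theorem core24 {A : Type u} [Group A] {gs : ℕ → A} {σ : A →* Cfsg.Spor.Fi24} (h : ∀ a ∈ S12, σ (gs a) = F24.gs a) (r : Rels gs R_Y0)
    (n : ∀ a ∈ S12, gs a * wev gs rho_F3 * (gs a)⁻¹ = (wev gs rho_F3)⁻¹) : ∀ x ∈ genW gs (sing S12), σ x = 1 → x ∈ zpowers (wev gs rho_F3) := by
  obtain ⟨f, hf, g⟩ := sub_gs gs S12
  have e : ∀ w ∈ R_YR, ((wev f w : genW gs (sing S12)) : A) = wev gs w := fun w hw => (map_wev (genW gs (sing S12)).subtype f w).trans (wev_congr fun a k => hf a (lt_YR w hw a k))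
  have m : rho_F3 ∈ R_YR := by decide +kernel
  have N : (zpowers (wev f rho_F3)).Normal := normalizer_eq_top_iff.1 (eq_top_iff.2 (g.ge.trans (genW_le.2 fun w hw => by
    obtain ⟨a, ha, rfl⟩ := List.mem_map.1 hw
    have : f a * wev f rho_F3 * (f a)⁻¹ = (wev f rho_F3)⁻¹ := Subtype.ext (by simpa [e _ m, hf a ha] using n a ha)
    rw [wev_cons, wev_nil, mul_one, mem_normalizer_iff_map_conj_eq, MonoidHom.map_zpowers]
    exact (congrArg zpowers this).trans zpowers_inv)))
  have ub := ub_YR _ (fun a => QuotientGroup.mk' (zpowers (wev f rho_F3)) (f a)) fun w hw => by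
    rw [← map_wev]
    rcases List.mem_append.1 (eq_YR ▸ hw) with k | k
    · rw [show wev f w = 1 from Subtype.ext ((e w hw).trans (r w k)), map_one]
    · rw [List.mem_singleton.1 k]; exact (QuotientGroup.eq_one_iff _).2 (mem_zpowers _)
  have t : genW (fun a => QuotientGroup.mk' (zpowers (wev f rho_F3)) (f a)) (sing S12) = ⊤ := eq_top_iff.2 fun x _ => by
    obtain ⟨x, rfl⟩ := QuotientGroup.mk'_surjective _ x
    exact (genW_le.2 fun w hw => show _ ∈ genW _ _ from map_wev (QuotientGroup.mk' (zpowers (wev f rho_F3))) f w ▸ mem_genW hw : genW f (sing S12) ≤ (genW _ _).comap (QuotientGroup.mk' _)) (g.ge (mem_top x))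
  rw [genW_nil, IdxLe.bot_iff, show [0, 1, 2, 3, 4, 5, 6, 7, 8, 9, 10, 11] = S12 from rfl, t, card_top] at ub
  let s := σ.comp (genW gs (sing S12)).subtype
  have l : zpowers (wev f rho_F3) ≤ s.ker := zpowers_le.2 (by
    rw [MonoidHom.mem_ker, map_wev]; exact (wev_congr fun a k => (congrArg σ (hf a (lt_YR _ m a k))).trans (h a (lt_YR _ m a k))).trans (relsF24 _ m))
  have i := relIndex_mul_index l
  have := ub.1
  have p : (zpowers (wev f rho_F3)).index ≠ 0 := have := Finite.of_equiv _ (topEquiv (G := _ ⧸ zpowers (wev f rho_F3))).toEquiv; Nat.card_pos.ne'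
  rw [index_ker, MonoidHom.range_comp, range_subtype, map24 h, card_top, top_Fi24.2.1] at i
  have j : (zpowers (wev f rho_F3)).relIndex s.ker = 1 := by have := ub.2; rw [← index_eq_card] at this; omega
  intro x hx k
  obtain ⟨z, hz⟩ := relIndex_eq_one.1 j (show (⟨x, hx⟩ : genW gs (sing S12)) ∈ s.ker from k)
  exact ⟨z, by simpa [e _ m] using congrArg Subtype.val hz⟩

noncomputable def cyB (w : List ℕ) : Bool := Nat.beq (tnz (tadd (cyw N_F24 (np c3L) w (0, 0)) (tsm 2 (0, 0)))) 0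
theorem cy_0 : allL cyB (R_Y0.take 60) = true := by decide +kernel
theorem cy_1 : allL cyB (R_Y0.drop 60) = true := by decide +kernel
theorem cy_2 : Nat.beq (tnz (tadd (cyw N_F24 (np c3L) rho_F3 (0, 0)) (tsm 2 (ones 306936, 0)))) 0 = true := by decide +kernel

end T
end H7
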