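import Cfsg.Agent.H7.Ms24a
import Cfsg.Agent.H7.Y555

/-! H7.Ms24b: the Schur multiplier of the commutator subgroup of `Fi24`. -/

set_option maxRecDepth 100000
namespace H7
open Subgroup
open scoped commutatorElement
universe u

theorem hom_uniq {P A B : Type*} [Group P] [Group A] [Group B] (p : _root_.commutator P = ⊤) {σ : A →* B} {M : Subgroup B} (c : ∀ z w, σ z = 1 → σ w ∈ M → Commute z w)
    {f g : P →* A} (h : ∀ x, σ (f x) = σ (g x)) (m : ∀ x, σ (f x) ∈ M) : f = g := by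
  have k : ∀ x w, σ w ∈ M → (f x)⁻¹ * g x * w * ((f x)⁻¹ * g x)⁻¹ = w := fun x w hw => mul_inv_eq_iff_eq_mul.2 (c _ w (by simp [h]) hw).eq
  have : _root_.commutator P ≤ g.eqLocus f := commutator_le.2 fun x _ y _ => by
    have e : ⁅g x, g y⁆ = f x * ((f x)⁻¹ * g x * g y * ((f x)⁻¹ * g x)⁻¹) * (f x)⁻¹ * (g y)⁻¹ := by rw [commutatorElement_def]; group
    rw [k _ _ (h y ▸ m y), show f x * g y * (f x)⁻¹ * (g y)⁻¹ = f x * f y * ((f y)⁻¹ * g y * (f x)⁻¹ * ((f y)⁻¹ * g y)⁻¹) * (f y)⁻¹ by group,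
      k _ _ (by simpa using m x)] at e
    exact (map_commutatorElement g x y).trans (e.trans (map_commutatorElement f x y).symm)
  exact MonoidHom.ext fun x => (this (p ▸ mem_top x)).symm

theorem z3 : ∀ a b : ZMod 3, a + (a + (a + b)) = b := by decide

def hom2 {M : Type*} [Group M] (a : M) (h : a * a = 1) : ℤˣ →* M where
  toFun e := if e = 1 then 1 else a
  map_one' := if_pos rfl
  map_mul' e f := by rcases Int.units_eq_one_or e with rfl | rfl <;> rcases Int.units_eq_one_or f with rfl | rfl <;> simp [h]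

namespace T
open Cfsg.Spor

theorem ev24m {w : List ℕ} (h : P24.okw w = true) : F24.ev w ∈ _root_.commutator Fi24 ↔ Even w.length := F24.even_mem (trD24 F24) index_Fi24' h

theorem rho_eq : rho_F3 = [10, 11] ++ X_F3 ++ [11, 10] ++ X_F3 ∧ X_F3.reverse = X_F3 := by decide +kernel

theorem rho_comm {A : Type} [Group A] {gs : ℕ → A} (r : Rels gs R_Y0) : wev gs rho_F3 = ⁅wev gs [10, 11], wev gs (X_F3 ++ [1])⁆ := by
  have sq : ∀ a < 12, gs a * gs a = 1 := fun a ha => by simpa using r [a, a] ((by decide +kernel : ∀ a < 12, [a, a] ∈ R_Y0) a ha)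
  have b := comm_of_rel sq [10] [1] (List.forall_mem_singleton.2 (r [10, 1, 10, 1] (by decide +kernel))) (by decide)
  have b' := comm_of_rel sq [11] [1] (List.forall_mem_singleton.2 (r [11, 1, 11, 1] (by decide +kernel))) (by decide)
  have x : (wev gs X_F3)⁻¹ = wev gs X_F3 := (wev_rev fun a h => sq a ((by decide +kernel : ∀ a ∈ X_F3, a < 12) a h)).symm.trans (congrArg _ rho_eq.2)
  have y : (wev gs [10, 11])⁻¹ = wev gs [11, 10] := (wev_rev fun a h => sq a (by simp at h; omega)).symm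
  have := ((b.mul_left b').inv_left).eq
  rw [← wev_append, show [10] ++ [11] = [10, 11] from rfl] at this
  rw [rho_eq.1, commutatorElement_def, wev_append, wev_append, wev_append, wev_append, mul_inv_rev, x, ← y, mul_assoc (wev gs [10, 11]) (_ * _), mul_assoc (wev gs X_F3), ← this]
  group

theorem ex3 : ∃ (Γ : Type) (_ : Group Γ) (_ : Finite Γ) (σ : Γ →* Fi24'), Cfsg.IsStemExtension σ ∧ Nonempty (σ.ker ≃* Multiplicative (ZMod 3)) := by
  have := F24.fin
  let gs : ℕ → Fi24 × Equiv.Perm (ℕ × ZMod 3) := fun a => (F24.gs a, cyp N_F24 (np c3L) a)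
  have e1 : ∀ w, (wev gs w).1 = F24.ev w := map_wev (MonoidHom.fst _ _) gs
  have e2 : ∀ w, (wev gs w).2 = wev (cyp N_F24 (np c3L)) w := map_wev (MonoidHom.snd _ _) gs
  have r : Rels gs R_Y0 := fun w hw => by
    have m : w ∈ R_YR := eq_YR ▸ List.mem_append_left _ hw
    have c : cyB w = true := (List.mem_append.1 ((List.take_append_drop 60 R_Y0).symm ▸ hw)).elim (allL_iff.1 cy_0 w) (allL_iff.1 cy_1 w)
    refine Prod.ext ((e1 w).trans (relsF24 w m)) ((e2 w).trans (Equiv.ext fun y => ?_))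
    rw [cyw_even ok_F24 (rels_YR w m) ((by decide +kernel : ∀ w ∈ R_YR, Even w.length) w m) (Nat.eq_of_beq_eq_true c)]; simp [tval]
  have m : rho_F3 ∈ R_YR := by decide +kernel
  have t1 : (wev gs rho_F3).1 = 1 := (e1 _).trans (relsF24 _ m)
  obtain ⟨v, t2, v0, v1⟩ : ∃ v : ℕ → ZMod 3, (∀ y, (wev gs rho_F3).2 y = (y.1, v y.1 + y.2)) ∧ v 0 = 1 ∧ ∀ a x, v ((N_F24 a).perm x) = v x :=
    ⟨tval (ones 306936, 0), fun y => by rw [e2, cyw_even ok_F24 (rels_YR _ m) (by decide +kernel) (Nat.eq_of_beq_eq_true cy_2)], by decide +kernel, fun a x => by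
      have l : (N_F24 a).perm x < 306936 ↔ x < 306936 := by
        have := wperm_lt ok_F24 [a] (i := x); have := wperm_of_ge ok_F24 [a] (i := x)
        simp only [wperm, List.map_cons, List.map_nil, List.prod_cons, List.prod_nil, mul_one] at *; omega
      simp only [tval, testBit_ones, l, Nat.zero_testBit]⟩
  generalize hτ : wev gs rho_F3 = τ at t1 t2
  have n : ∀ a, gs a * τ * (gs a)⁻¹ = τ⁻¹ := fun a => by
    rw [mul_inv_eq_iff_eq_mul, eq_inv_mul_iff_mul_eq]
    refine Prod.ext (by simp [t1]) (Equiv.ext fun y => ?_)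
    simp only [Prod.snd_mul, Equiv.Perm.mul_apply, t2, gs, cyp, Equiv.prodShear_apply, Equiv.subLeft_apply, v1]
    congr 1; ring
  have t3 : τ ^ 3 = 1 := by
    rw [pow_three]
    refine Prod.ext (by simp [t1]) (Equiv.ext fun y => ?_)
    rw [Prod.snd_mul, Prod.snd_mul, Equiv.Perm.mul_apply, Equiv.Perm.mul_apply, t2, t2, t2, Prod.snd_one, Equiv.Perm.one_apply]
    exact Prod.ext rfl (z3 _ _)
  have t0 : τ ≠ 1 := fun e => absurd (t2 (0, 0)) (by rw [e, v0]; decide)
  have c := core24 (gs := gs) (σ := MonoidHom.fst _ _) (fun _ _ => rfl) r (fun a _ => hτ ▸ n a)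
  have s : ∀ x ∈ genW gs (sing S12), x * τ * x⁻¹ = τ ^ (sgn_Fi24 x.1 : ℤ) := fun x hx => by
    induction hx using closure_induction'' with
    | mem x hx =>
      obtain ⟨_, hw, rfl⟩ := hx
      obtain ⟨a, ha, rfl⟩ := List.mem_map.1 hw
      simpa [gs, gsF24 (lt12 ha), sgn_Fi24_gs a (lt12 ha)] using n a
    | inv_mem x hx =>
      obtain ⟨_, hw, rfl⟩ := hx
      obtain ⟨a, ha, rfl⟩ := List.mem_map.1 hw
      have : (gs a)⁻¹ * τ * gs a = τ⁻¹ := by rw [← inv_inj, inv_inv, mul_inv_rev, mul_inv_rev, inv_inv, ← n a]; group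
      simpa [gs, gsF24 (lt12 ha), sgn_Fi24_gs a (lt12 ha)] using this
    | one => simp
    | mul x y _ _ a b => rw [show x * y * τ * (x * y)⁻¹ = x * (y * τ * y⁻¹) * x⁻¹ by group, b, ← conj_zpow, a, ← zpow_mul]; simp
  let K := genW gs (sing S12) ⊓ (_root_.commutator Fi24).comap (MonoidHom.fst _ _)
  let σ : K →* Fi24' := ((MonoidHom.fst _ _).comp K.subtype).codRestrict _ fun x => x.2.2
  have mK : ∀ w, P24.okw w = true → (∀ a ∈ w, a ∈ S12) → Even w.length → wev gs w ∈ K := fun w o l e =>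
    ⟨wev_mem_of_letters fun a ha => gs_mem_sing (l a ha), show (wev gs w).1 ∈ _ from e1 w ▸ (ev24m o).2 e⟩
  have tK : τ ∈ K := hτ ▸ mK _ (by decide +kernel) (by decide +kernel) (by decide +kernel)
  have k : σ.ker = zpowers ⟨τ, tK⟩ := le_antisymm (fun (x : K) hx => let ⟨z, hz⟩ := c x x.2.1 (congrArg Subtype.val hx); ⟨z, Subtype.ext (hτ ▸ hz)⟩)
    (zpowers_le.2 (Subtype.ext t1))
  have o : orderOf (⟨τ, tK⟩ : K) = 3 := orderOf_eq_prime (Subtype.ext t3) fun e => t0 (congrArg Subtype.val e)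
  have cd : Nat.card σ.ker = 3 := by rw [k, Nat.card_zpowers, o]
  have fk : Finite σ.ker := Nat.finite_of_card_ne_zero (by omega)
  refine ⟨K, inferInstance, (MonoidHom.finite_iff_finite_ker_range σ).2 ⟨fk, inferInstance⟩, σ, ⟨fun y => ?_, k ▸ zpowers_le.2 (mem_center_iff.2 fun x => Subtype.ext ?_),
    k ▸ zpowers_le.2 ?_⟩, ⟨mulEquivOfPrimeCardEq cd (by simp)⟩⟩
  · obtain ⟨x, hx, e⟩ := (map24 (gs := gs) (σ := MonoidHom.fst _ _) fun _ _ => rfl).ge (mem_top y.1)
    exact ⟨⟨x, hx, show x.1 ∈ _ from (show x.1 = y from e) ▸ y.2⟩, Subtype.ext e⟩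
  · have := s x x.2.1
    rw [show sgn_Fi24 x.1.1 = 1 from Abelianization.commutator_subset_ker sgn_Fi24 x.2.2] at this
    exact mul_inv_eq_iff_eq_mul.1 (by simpa using this)
  · rw [show (⟨τ, tK⟩ : K) = ⁅(⟨_, mK [10, 11] (by decide) (by decide) (by decide)⟩ : K), ⟨_, mK (X_F3 ++ [1]) (by decide +kernel) (by decide +kernel) (by decide +kernel)⟩⁆ from
      Subtype.ext (hτ.symm.trans (rho_comm r))]
    exact commutator_mem_commutator (mem_top _) (mem_top _)

theorem sect24 {A : Type} [Group A] {σ : A →* Fi24} (s : Function.Surjective σ) (c : ∀ z w, σ z = 1 → σ w ∈ _root_.commutator Fi24 → Commute z w) {e : Fi24} (he : e ∈ F24.D) :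
    _root_.commutator ↥(_root_.commutator Fi24 ⊓ centralizer {e}) = ⊤ ∧ ∃ f : ↥(_root_.commutator Fi24 ⊓ centralizer {e}) →* A, ∀ k, σ (f k) = k := by
  have := F23.fin
  have l := loc24 F24 F23 _ he
  obtain ⟨τ, h⟩ := l.cc
  obtain ⟨π, -, h2, h3⟩ := h.hom' F23.closure_D F23.center_eq
  have n := F24.not_mem_two (trD24 F24) index_Fi24' he
  let ψ := π.comp (inclusion (inf_le_right.trans l.eq.ge : _root_.commutator Fi24 ⊓ centralizer {e} ≤ _))
  have i : Function.Injective ψ := (injective_iff_map_eq_one _).2 fun x hx => Subtype.ext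
    ((l.c2 x.1 (l.eq.ge x.2.2) fun y hy => congrArg Subtype.val (mem_center_iff.1 (h3.le hx) ⟨y, subset_closure hy⟩).symm).resolve_right fun k => n (k ▸ x.2.1))
  have j : Function.Surjective ψ := fun y => by
    obtain ⟨x, rfl⟩ := h2 y
    by_cases k : x.1 ∈ _root_.commutator Fi24
    · exact ⟨⟨x, k, l.eq.le x.2⟩, rfl⟩
    · refine ⟨⟨x * e, (mul_mem_iff_of_index_two index_Fi24').2 (iff_of_false k n), l.eq.le (mul_mem x.2 l.mem)⟩, ?_⟩
      change π (x * ⟨e, l.mem⟩) = _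
      rw [map_mul, show π ⟨e, l.mem⟩ = 1 from h3.ge (l.cen.ge (mem_zpowers e)), mul_one]
  have q := (qs_of_simple simple_Fi23 (by rw [F23.card.trans (rfl : _ = 4089470473293004800)]; norm_num)).1.1
  let E := MulEquiv.ofBijective ψ ⟨i, j⟩
  obtain ⟨U, _, _, φ, p, a, b, u⟩ := Cfsg.Agent.S3960.result q
  let E' := MulEquiv.ofBijective φ ⟨(MonoidHom.ker_eq_bot_iff _).1 (triv23 φ ⟨a, b, p.1.ge.trans' le_top⟩), a⟩
  obtain ⟨η, k, -⟩ := u _ (ψ.comp (σ.subgroupComap _)) (j.comp (σ.subgroupComap_surjective_of_surjective _ s)) fun x hx => mem_center_iff.2 fun y =>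
    Subtype.ext (c _ _ (congrArg Subtype.val ((injective_iff_map_eq_one _).1 i _ hx)) y.2.1).symm
  exact ⟨(Group.IsPerfect.ofSurjective (f := E.symm.toMonoidHom) E.symm.surjective).1, (Subgroup.subtype _).comp (η.comp (E'.symm.toMonoidHom.comp ψ)), fun x =>
    congrArg Subtype.val (i ((DFunLike.congr_fun k _).trans (E'.apply_symm_apply _)))⟩

end T
end H7
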