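import Cfsg.Agent.H7.Ms24b

/-! H7.Ms24: the Schur multiplier of the commutator subgroup of `Fi24`, continued. -/

set_option maxRecDepth 100000
namespace H7
open Subgroup
namespace T
open Cfsg.Spor

theorem ker24 {A : Type} [Group A] {σ : A →* Fi24} (s : Function.Surjective σ) (c : ∀ z w, σ z = 1 → σ w ∈ _root_.commutator Fi24 → Commute z w) {d : A} (hd : d * d = 1)
    (hd' : σ d = F24.gs 10) : ∃ τ, τ ^ 3 = 1 ∧ ∃ H : Subgroup A, H.map σ = ⊤ ∧ ∀ x ∈ H, σ x = 1 → x ∈ zpowers τ := by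
  have i := index_Fi24'
  choose p f hf using fun e : F24.D => sect24 s c e.2
  let Adj : F24.D → A → A → Prop := fun e x y => ∃ k, y = x * f e k
  have n := fun e : F24.D => F24.not_mem_two (trD24 F24) i e.2
  have G1 : ∀ (e : F24.D) x, σ x = e → ∀ k, Commute x (f e k) := fun e x h k => mul_inv_eq_iff_eq_mul.1 (DFunLike.congr_fun (hom_uniq (p e) c
    (f := (MulAut.conj x).toMonoidHom.comp (f e)) (g := f e) (fun k => by simp [hf, h, ← mem_centralizer_singleton_iff.1 k.2.2]) fun k => by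
      simpa [hf, h, ← mem_centralizer_singleton_iff.1 k.2.2] using k.2.1) k)
  have A1 : ∀ (e : F24.D) x, x * x = 1 → σ x = e → ∀ y : F24.D, Commute e.1 y → ∃ z, Adj e x z ∧ z * z = 1 ∧ σ z = y := fun e x h h' y k => by
    have q := F24.t3.sq _ e.2
    refine ⟨_, ⟨⟨e * y, (mul_mem_iff_of_index_two i).2 (iff_of_false (n e) (n y)), mem_centralizer_singleton_iff.2 ((Commute.refl _).mul_left k.symm)⟩, rfl⟩, ?_, ?_⟩
    · rw [(G1 e x h' _).symm.mul_mul_mul_comm, h, one_mul, ← map_mul]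
      exact (congrArg (f e) (Subtype.ext (by change e.1 * y * (e * y) = 1; rw [k.symm.mul_mul_mul_comm, q, F24.t3.sq _ y.2, one_mul]))).trans (map_one _)
    · rw [map_mul, h', hf, ← mul_assoc, q, one_mul]
  have A2 : ∀ (e e' : F24.D) x y z, e.1 ≠ e' → Commute e.1 e' → σ y = e' → Adj e x y → Adj e x z → Commute e'.1 (σ z) → Adj e' y z := fun e e' x y z ne k h ⟨a, ha⟩ ⟨b, hb⟩ k' => by
    have l1 : _root_.commutator Fi24 ⊓ centralizer {e.1, e'.1} ≤ _ ⊓ centralizer {e.1} := inf_le_inf_left _ (centralizer_le (by simp))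
    have l2 : _root_.commutator Fi24 ⊓ centralizer {e.1, e'.1} ≤ _ ⊓ centralizer {e'.1} := inf_le_inf_left _ (centralizer_le (by simp))
    have u := hom_uniq (pack2 F24 i e.2 e'.2 ne k rfl).1.1.1 c (f := (f e).comp (inclusion l1)) (g := (f e').comp (inclusion l2)) (fun x => by simp [hf]) fun x => by
      simpa [hf] using x.2.1
    have v : (a⁻¹ * b).1 = e'.1⁻¹ * σ z := by simp [← h, ha, hb, hf]
    have m : (a⁻¹ * b).1 ∈ _root_.commutator Fi24 ⊓ centralizer {e.1, e'.1} := ⟨(a⁻¹ * b).2.1, by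
      rintro _ (rfl | rfl)
      exacts [(a⁻¹ * b).2.2 _ rfl, v ▸ ((Commute.refl _).inv_right.mul_right k').eq]⟩
    exact ⟨_, Eq.trans (by rw [ha, hb]; change _ = _ * f e (a⁻¹ * b); simp) (congrArg (y * ·) (DFunLike.congr_fun u ⟨_, m⟩))⟩
  have loc : ∀ (e : F24.D) x (gs : ℕ → A), x * x = 1 → σ x = e → ∀ w, (∀ a ∈ w, Adj e x (gs a)) → σ (wev gs w) = 1 → wev gs w = 1 := fun e x gs h h' w hw k => by
    have : ∃ k, wev gs w = f e k ∨ wev gs w = x * f e k := by
      clear k
      induction w with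
      | nil => exact ⟨1, .inl (map_one _).symm⟩
      | cons a w ih =>
        obtain ⟨b, hb⟩ := ih fun a ha => hw a (List.mem_cons_of_mem _ ha)
        obtain ⟨b', hb'⟩ := hw a List.mem_cons_self
        refine ⟨b' * b, hb.symm.imp (fun hb => ?_) fun hb => ?_⟩
        · rw [wev_cons, hb, hb', (G1 e x h' _).symm.mul_mul_mul_comm, h, one_mul, map_mul]
        · rw [wev_cons, hb, hb', map_mul, mul_assoc]
    obtain ⟨b, hb | hb⟩ := this
    · rw [hb, hf] at k; rw [hb, show b = 1 from Subtype.ext k, map_one]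
    · rw [hb, map_mul, hf, h'] at k; exact absurd (eq_inv_of_mul_eq_one_left k ▸ inv_mem b.2.1) (n e)
  let γ : ∀ a, a < 12 → F24.D := fun a h => ⟨_, F24.gs_mem (a := a) (h.trans (by decide))⟩
  have sq : ∀ a < 12, F24.gs a * F24.gs a = 1 := fun a h => F24.t3.sq _ (γ a h).2
  have cm : ∀ a b, a < 12 → b < 12 → (a = b ∨ [a, b, a, b] ∈ R_YR ∨ [b, a, b, a] ∈ R_YR) → Commute (F24.gs a) (F24.gs b) := by
    rintro a b h h' (rfl | k | k)
    · exact Commute.refl _
    · simpa using comm_of_rel sq [a] [b] (List.forall_mem_singleton.2 (relsF24 _ k)) (by simp [h, h'])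
    · simpa using (comm_of_rel sq [b] [a] (List.forall_mem_singleton.2 (relsF24 _ k)) (by simp [h, h'])).symm
  have ne : ∀ a b, a < 12 → b < 12 → ∀ x, x < 12 → (a = x ∨ [a, x, a, x] ∈ R_YR ∨ [x, a, x, a] ∈ R_YR) → fixB P24.Ns [P24.lp x] [b] = false → F24.gs a ≠ F24.gs b := fun a b h h' x hx k k' e => by
    have l := F24.hl x (hx.trans (by decide))
    have := (F24.comm_iff _ l.1).1 (l.2 ▸ e ▸ cm a x h hx k)
    rw [F24.hρ] at this
    simp [fixB, allL, tb_eq, testBit_wapp F24.ok, wperm, this, testBit_bit] at k'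
  choose g0 g1 g2 g3 using fun a (h : a < 11) => A1 (γ 10 (by decide)) d hd hd' (γ a (by omega))
    (cm 10 a (by decide) (by omega) ((by decide +kernel : ∀ a < 11, 10 = a ∨ [10, a, 10, a] ∈ R_YR ∨ [a, 10, a, 10] ∈ R_YR) a h))
  obtain ⟨k0, k1, k2, k3⟩ := A1 (γ 9 (by decide)) _ (g2 9 (by decide)) (g3 9 (by decide)) (γ 11 (by decide)) (cm 9 11 (by decide) (by decide) (by decide +kernel))
  let gs : ℕ → A := fun a => if h : a < 11 then g0 a h else k0
  have h0 : ∀ a ∈ S12, σ (gs a) = F24.gs a := fun a ha => by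
    by_cases h : a < 11
    · simp only [gs, dif_pos h, g3, γ]
    · rw [show a = 11 by have := lt12 ha; omega]; exact k3
  have h1 : ∀ a, gs a * gs a = 1 := fun a => by by_cases h : a < 11 <;> simp only [gs, h, dite_true, dite_false, g2, k2]
  have a9 : ∀ a < 12, a ≠ 6 → Adj (γ 9 (by decide)) (gs 9) (gs a) := fun a h h' => by
    by_cases k : a < 11
    · rw [show gs a = g0 a k from dif_pos k]
      exact A2 _ _ d _ _ (ne 10 9 (by decide) (by decide) 6 (by decide) (by decide +kernel) (by decide +kernel)) (cm 10 9 (by decide) (by decide) (by decide +kernel)) (g3 9 (by decide))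
        (g1 9 (by decide)) (g1 a k) (g3 a k ▸ cm 9 a (by decide) h ((by decide +kernel : ∀ a < 12, a ≠ 6 → 9 = a ∨ [9, a, 9, a] ∈ R_YR ∨ [a, 9, a, 9] ∈ R_YR) a h h'))
    · rw [show a = 11 by omega]; exact k1
  have r : Rels gs R_Y0 := fun w hw => by
    have m : w ∈ R_YR := eq_YR ▸ List.mem_append_left _ hw
    have z : σ (wev gs w) = 1 := (map_wev σ gs w).trans ((wev_congr fun a k => h0 a (lt_YR w m a k)).trans (relsF24 w m))
    rcases (by decide +kernel : ∀ w ∈ R_Y0, (∀ a ∈ w, a < 11) ∨ (∀ a ∈ w, a < 12 ∧ a ≠ 6) ∨ ∀ a ∈ w, a = 6 ∨ a = 11) w hw with k | k | k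
    · exact loc _ d gs hd hd' w (fun a ha => (dif_pos (k a ha) : gs a = _) ▸ g1 a (k a ha)) z
    · exact loc _ _ gs (h1 9) (g3 9 (by decide)) w (fun a ha => a9 a (k a ha).1 (k a ha).2) z
    · refine loc (γ 2 (by decide)) _ gs (h1 2) (g3 2 (by decide)) w (fun a ha => ?_) z
      rcases k a ha with rfl | rfl
      · exact A2 _ _ d _ _ (ne 10 2 (by decide) (by decide) 1 (by decide) (by decide +kernel) (by decide +kernel)) (cm 10 2 (by decide) (by decide) (by decide +kernel)) (g3 2 (by decide))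
          (g1 2 (by decide)) (g1 6 (by decide)) (g3 6 (by decide) ▸ cm 2 6 (by decide) (by decide) (by decide +kernel))
      · exact A2 _ _ _ _ _ (ne 9 2 (by decide) (by decide) 1 (by decide) (by decide +kernel) (by decide +kernel)) (cm 9 2 (by decide) (by decide) (by decide +kernel)) (g3 2 (by decide))
          (a9 2 (by decide) (by decide)) k1 (k3 ▸ cm 2 11 (by decide) (by decide) (by decide +kernel))
  have ev : ∀ w, (∀ a ∈ w, a ∈ S12) → σ (wev gs w) = F24.ev w := fun w h => (map_wev σ gs w).trans (wev_congr fun a k => h0 a (h a k))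
  have z : σ (wev gs rho_F3) = 1 := (ev _ (by decide +kernel)).trans (relsF24 _ (by decide +kernel))
  have x : (wev gs X_F3)⁻¹ = wev gs X_F3 := (wev_rev fun a _ => h1 a).symm.trans (congrArg _ rho_eq.2)
  have y : (wev gs [10, 11])⁻¹ = wev gs [11, 10] := (wev_rev fun a _ => h1 a).symm
  have e : wev gs rho_F3 = wev gs [10, 11] * wev gs X_F3 * (wev gs [10, 11])⁻¹ * (wev gs X_F3)⁻¹ := by
    rw [x, y, ← wev_append, ← wev_append, ← wev_append, rho_eq.1]
  refine ⟨_, ?_, _, map24 h0, core24 h0 r fun a ha => ?_⟩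
  · have t : wev gs [10, 11] ^ 3 = 1 := (wev_rp _ _ _).symm.trans (r _ (by decide +kernel))
    have k := c _ _ z (ev [10, 11] (by decide) ▸ (ev24m (by decide)).2 (by decide))
    generalize wev gs rho_F3 = τ at e k ⊢
    generalize wev gs [10, 11] = u at e k t
    generalize wev gs X_F3 = v at e
    have : ∀ j : ℕ, u ^ j * v = τ ^ j * v * u ^ j := fun j => by
      induction j with
      | zero => simp
      | succ j ih => rw [pow_succ' u, mul_assoc, ih, ← mul_assoc, ← mul_assoc, (k.symm.pow_right j).eq, pow_succ τ, e]; group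
    simpa [t] using this 3
  · have k := c _ (gs a * (wev gs X_F3)⁻¹) z (by
      rw [x, ← wev_cons, ev _ (List.forall_mem_cons.2 ⟨ha, by decide +kernel⟩)]
      exact (ev24m ((by decide +kernel : ∀ a ∈ S12, P24.okw (a :: X_F3) = true) a ha)).2 (by rw [List.length_cons]; decide +kernel))
    have : wev gs X_F3 * wev gs rho_F3 * (wev gs X_F3)⁻¹ = (wev gs rho_F3)⁻¹ := by
      have o := mul_eq_one_iff_eq_inv.2 x.symm
      simp only [e, mul_inv_rev, inv_inv, x, mul_assoc, o, mul_one]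
    rw [← inv_mul_cancel_right (gs a) (wev gs X_F3), mul_inv_rev, ← mul_assoc, mul_assoc _ _ (wev gs rho_F3), mul_assoc _ _ (wev gs X_F3)⁻¹, this]
    exact mul_inv_eq_iff_eq_mul.2 k.inv_left.symm.eq

end T
end H7
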