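import Cfsg.Agent.H7.Ms24c

/-! H7.Ms24: the Schur multiplier of the commutator subgroup of `Fi24`, continued. -/

set_option maxRecDepth 100000
namespace H7
open Subgroup
namespace T
open Cfsg.Spor

theorem up3 (X : Type) [Group X] (σ : X →* Fi24') (h : Cfsg.IsStemExtension σ) : ∃ y, y ^ 3 = 1 ∧ σ.ker ≤ zpowers y := by
  have := F24.fin
  have q := (qs_of_simple simple_Fi24' (by rw [card_Fi24']; norm_num)).1.1
  obtain ⟨U, _, _, φ, p, a, b, u⟩ := Cfsg.Agent.S3960.result q
  have d := F24.gs_mem (a := 10) (by decide)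
  have sq := F24.t3.sq _ d
  let κ : MulAut Fi24' := MulAut.conjNormal (F24.gs 10)
  have kk : ∀ x, κ (κ x) = x := fun x => by rw [← MulAut.mul_apply, ← map_mul, sq, map_one]; rfl
  obtain ⟨α, e, -⟩ := u U (κ.toMonoidHom.comp φ) (κ.surjective.comp a) fun x hx => b (κ.map_eq_one_iff.1 hx)
  have e1 : ∀ x, φ (α x) = κ (φ x) := fun x => (kk _).symm.trans (congrArg κ (DFunLike.congr_fun e x))
  have aa : ∀ x, α (α x) = x := DFunLike.congr_fun (hom_uniq p.1 (σ := φ) (M := ⊤) (fun z w hz _ => (mem_center_iff.1 (b hz) w).symm) (f := α.comp α) (g := MonoidHom.id U)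
    (fun x => by simp [e1, kk]) fun _ => mem_top _)
  let β : MulAut U := { α with invFun := α, left_inv := aa, right_inv := aa }
  let ψ := hom2 β (MulEquiv.ext aa)
  let s : U ⋊[ψ] ℤˣ →* Fi24 := SemidirectProduct.lift ((Subgroup.subtype _).comp φ) (hom2 _ sq) fun g => MonoidHom.ext fun x => by
    rcases Int.units_eq_one_or g with rfl | rfl
    · simp
    · exact congrArg Subtype.val (e1 x)
  have n := F24.not_mem_two (trD24 F24) index_Fi24' d
  have E : ∀ x, s x ∈ _root_.commutator Fi24 → x = SemidirectProduct.inl x.left := fun x hx => SemidirectProduct.ext rfl ((Int.units_eq_one_or x.right).resolve_right fun k => n (by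
    have : s x = φ x.left * F24.gs 10 := by change _ * hom2 _ sq x.right = _; rw [k]; rfl
    rwa [this, mul_mem_cancel_left (φ x.left).2] at hx))
  have sl : ∀ x, s (SemidirectProduct.inl x) = φ x := fun x => SemidirectProduct.lift_inl _ _ _ x
  have sr : s (SemidirectProduct.inr (-1)) = F24.gs 10 := SemidirectProduct.lift_inr _ _ _ _
  obtain ⟨τ, t, H, m, k⟩ := ker24 (σ := s) (fun g => by
      by_cases c : g ∈ _root_.commutator Fi24
      · obtain ⟨x, e⟩ := a ⟨g, c⟩; exact ⟨_, (sl x).trans (congrArg Subtype.val e)⟩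
      · obtain ⟨x, e⟩ := a ⟨g * F24.gs 10, (mul_mem_iff_of_index_two index_Fi24').2 (iff_of_false c n)⟩
        exact ⟨SemidirectProduct.inl x * SemidirectProduct.inr (-1), by rw [map_mul, sl, sr, e, mul_assoc, sq, mul_one]⟩)
    (fun z w hz hw => by
      rw [E z (hz ▸ one_mem _), E w hw]
      exact Commute.map (mem_center_iff.1 (b (Subtype.ext ((sl _).symm.trans (E z (hz ▸ one_mem _) ▸ hz)))) _).symm _)
    (d := SemidirectProduct.inr (-1)) (by rw [← map_mul]; simp) sr
  have T : H.comap SemidirectProduct.inl = ⊤ := top_of_cen p fun x => by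
    obtain ⟨y, hy, e⟩ := m.ge (mem_top (φ x).1)
    have f := E y (e ▸ (φ x).2)
    exact ⟨y.left, show SemidirectProduct.inl y.left ∈ H from f ▸ hy, b (by rw [MonoidHom.mem_ker, map_mul, map_inv, inv_mul_eq_one]; exact Subtype.ext ((sl _).symm.trans (f ▸ e)))⟩
  obtain ⟨η, e', -⟩ := u X σ h.1 h.2.1
  have e2 : ∀ x, σ (η x) = φ x := DFunLike.congr_fun e'
  have R : η.range = ⊤ := top_of_cen ⟨eq_top_iff.2 fun x _ => by
      obtain ⟨y, hy, e⟩ := ((map_commutator _ _ σ).trans (by rw [map_top_of_surjective _ h.1]; exact q.1)).ge (mem_top (σ x))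
      rw [← mul_inv_cancel_left y x]; exact mul_mem hy (h.2.2 (by simp [e]))⟩ fun x => let ⟨v, hv⟩ := a (σ x); ⟨_, ⟨v, rfl⟩, h.2.1 (by simp [e2, hv])⟩
  have f : τ = SemidirectProduct.inl τ.left := SemidirectProduct.ext rfl (by
    have := congrArg SemidirectProduct.rightHom t
    rw [map_pow, map_one] at this
    exact (Int.units_eq_one_or τ.right).resolve_right fun k => absurd (k ▸ this : (-1 : ℤˣ) ^ 3 = 1) (by decide))
  refine ⟨η τ.left, by rw [← map_pow, show τ.left ^ 3 = 1 from SemidirectProduct.inl_injective (φ := ψ) (by rw [map_pow, ← f, t, map_one]), map_one], fun x hx => ?_⟩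
  obtain ⟨v, rfl⟩ := R.ge (mem_top x)
  obtain ⟨j, hj⟩ := k _ (T.ge (mem_top v)) ((sl v).trans (congrArg Subtype.val ((e2 v).symm.trans hx)))
  have : τ.left ^ j = v := SemidirectProduct.inl_injective (φ := ψ) (by rw [map_zpow, ← f]; exact hj)
  exact ⟨j, this ▸ (map_zpow η _ _).symm⟩

end T
end H7
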