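import Cfsg.Agent.H7.Two24
import Cfsg.Agent.S2079

/-! H7.Out24: the automorphisms of the commutator subgroup of `Fi24`. -/

namespace H7
open Subgroup
open scoped commutatorElement

universe u
variable {G : Type u} [Group G]

def qAut (H : Type*) [Group H] : MulAut H →* MulAut (H ⧸ center H) where
  toFun φ := QuotientGroup.congr _ _ φ (characteristic_iff_map_eq.1 inferInstance φ)
  map_one' := MulEquiv.ext fun x => by induction x using QuotientGroup.induction_on; rfl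
  map_mul' a b := MulEquiv.ext fun x => by induction x using QuotientGroup.induction_on; rfl

theorem qAut_inj {H : Type*} [Group H] (p : _root_.commutator H = ⊤) : Function.Injective (qAut H) := (injective_iff_map_eq_one _).2 fun φ h => by
  have c : ∀ x g, (φ x)⁻¹ * x * g * ((φ x)⁻¹ * x)⁻¹ = g := fun x g =>
    mul_inv_eq_iff_eq_mul.2 (mem_center_iff.1 (QuotientGroup.eq.1 (DFunLike.congr_fun h (QuotientGroup.mk x))) g).symm
  have : _root_.commutator H ≤ φ.toMonoidHom.eqLocus (MonoidHom.id H) := commutator_le.2 fun x _ y _ => by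
    have e : ⁅x, y⁆ = φ x * ((φ x)⁻¹ * x * y * ((φ x)⁻¹ * x)⁻¹) * (φ x)⁻¹ * y⁻¹ := by rw [commutatorElement_def]; group
    rw [c, show φ x * y * (φ x)⁻¹ * y⁻¹ = φ x * φ y * ((φ y)⁻¹ * y * (φ x)⁻¹ * ((φ y)⁻¹ * y)⁻¹) * (φ y)⁻¹ by group, c] at e
    exact (map_commutatorElement φ x y).trans e.symm
  exact MulEquiv.ext fun x => this (p ▸ mem_top x)

theorem aut_real [Finite G] {H K : Subgroup G} (n : H ≤ normalizer (K : Set G)) (c : Nat.card (MulAut K) * Nat.card ↥(H ⊓ centralizer K) ≤ Nat.card H) (β : MulAut K) :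
    ∃ g ∈ H, ∀ k : K, (β k : G) = g * k * g⁻¹ := by
  let f : H →* MulAut K := K.normalizerMonoidHom.comp (inclusion n)
  have k : f.ker ≤ (centralizer K).subgroupOf H := fun g hg y hy =>
    (mul_inv_eq_iff_eq_mul.1 (show (g : G) * y * (g : G)⁻¹ = y from congrArg Subtype.val (DFunLike.congr_fun hg (⟨y, hy⟩ : K)))).symm
  have l := card_le_of_le k
  rw [← card_map_of_injective H.subtype_injective (K := subgroupOf _ _), subgroupOf_map_subtype, inf_comm] at l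
  rw [← f.ker.index_mul_card, index_ker] at c
  obtain ⟨g, e⟩ := (eq_top_of_le_card f.range (Nat.le_of_mul_le_mul_right (c.trans (Nat.mul_le_mul_left _ l)) Nat.card_pos)).ge (mem_top β)
  exact ⟨g, g.2, fun k => e ▸ rfl⟩

theorem aut_res {L H K : Subgroup G} {z : L} (hH : H = L ⊓ centralizer {z.1}) (hK : ⁅H, H⁆ = K) (l : K ≤ L) (α : MulAut L) (h : α z = z) :
    ∃ β : MulAut K, ∀ k : K, (β k : G) = α ⟨k, l k.2⟩ := by
  have a : (centralizer {z}).map L.subtype = H := hH ▸ Subgroup.ext fun g => ⟨fun ⟨x, hx, e⟩ => e ▸ ⟨x.2, mem_centralizer_singleton_iff.2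
    (congrArg Subtype.val (mem_centralizer_singleton_iff.1 hx))⟩, fun h => ⟨⟨g, h.1⟩, mem_centralizer_singleton_iff.2 (Subtype.ext (mem_centralizer_singleton_iff.1 h.2)), rfl⟩⟩
  have b : K.subgroupOf L = ⁅centralizer {z}, centralizer {z}⁆ := map_injective L.subtype_injective (by rw [map_commutator, a, hK, map_subgroupOf_eq_of_le l])
  have c : (centralizer {z}).map (α : L →* L) = centralizer {z} := by
    ext x; refine mem_map_equiv.trans ?_
    rw [mem_centralizer_singleton_iff, mem_centralizer_singleton_iff, ← α.injective.eq_iff]; simp [h]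
  exact ⟨(subgroupOfEquivOfLe l).symm.trans (((α.subgroupMap _).trans (MulEquiv.subgroupCongr (by rw [b, map_commutator, c]))).trans (subgroupOfEquivOfLe l)), fun _ => rfl⟩

theorem comm_two {H K : Subgroup G} (l : K ≤ H) (j : (K.subgroupOf H).index = 2) (p : _root_.commutator K = ⊤) : ⁅H, H⁆ = K := by
  refine le_antisymm (commutator_le.2 fun x hx y hy => ?_) ((?_ : K ≤ ⁅K, K⁆).trans (commutator_mono l l))
  · have : (⟨x, hx⟩ * ⟨y, hy⟩ * ((⟨y, hy⟩ * ⟨x, hx⟩)⁻¹) : H) ∈ K.subgroupOf H := by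
      rw [mul_mem_iff_of_index_two j, inv_mem_iff, mul_mem_iff_of_index_two j, mul_mem_iff_of_index_two j]; exact Iff.comm
    simpa [mem_subgroupOf, commutatorElement_def, mul_assoc] using this
  · rw [← map_subtype_commutator, p, ← MonoidHom.range_eq_map, range_subtype]

namespace T
variable (F : FM P24 G) {L : Subgroup G} (i : L.index = 2)
include i

theorem pack2 {a b : G} (h₁ : a ∈ F.D) (h₂ : b ∈ F.D) (hne : a ≠ b) (hc : Commute a b) {K : Subgroup G} (hK : K = L ⊓ centralizer {a, b}) :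
    Cfsg.IsQuasisimple K ∧ (center K).map K.subtype = zpowers (a * b) ∧ Nat.card K = 129123503308800 ∧ K ≤ L ⊓ centralizer {a * b} ∧
      (K.subgroupOf (L ⊓ centralizer {a * b})).index = 2 ∧ Nat.card (zpowers (a * b)) = 2 ∧ Nonempty (K ⧸ center K ≃* Cfsg.Spor.Fi22) := by
  have := F.fin
  obtain ⟨F, e, rfl, rfl⟩ := t2_24 F h₁ h₂ hne hc
  rw [← e] at h₁ h₂
  have f := fac2 h₁ h₂ hne hc
  have nL := fun x (hx : x ∈ F.D) => FM.not_mem_two (trD24 F) i hx
  have ev := fun p hp q hq => (mul_mem_iff_of_index_two i).2 (iff_of_false (nL p hp) (nL q hq))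
  have l : K ≤ L ⊓ centralizer {F.e (10,[]) * F.e (0,[])} := hK ▸ inf_le_inf_left _ fun g hg => mem_centralizer_singleton_iff.2 (f.fix fun x hx => by
    rwa [conj_eq_self.2 (mem_cent.1 hg x (by simpa using hx))])
  have hK' : ∀ g, g ∈ K ↔ g ∈ L ∧ ∀ a ∈ [F.e (10,[]), F.e (0,[])], Commute g a := fun g => by simp [hK, mem_cent]
  have j := index_of_quot (fac_quot (K := K) (fun g _ => F.conj_mem g) (uq24 F (by decide)) f (F.sw2 f (11,[]) (by decide +kernel))
    ev fun g hg => by simp [hK', hg])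
  have z : Nat.card (zpowers (F.e (10,[]) * F.e (0,[]))) = 2 := (Nat.card_zpowers _).trans (orderOf_eq_prime (by
    rw [hc.mul_pow, pow_two, pow_two, F.t3.sq _ h₁, F.t3.sq _ h₂, mul_one]) fun e => hne (by rw [eq_inv_of_mul_eq_one_left e, F.t3.inv h₂]))
  have k : Nat.card K = 2 * Nat.card Cfsg.Spor.Fi22 := by
    have := card_inf_two i (C := centralizer {F.e (10,[]), F.e (0,[])}) (mem_cent.2 (by simp [hc])) (nL _ h₁)
    rw [← hK, ← top_inf_eq (centralizer _), ← F.PS2, cd2_24] at this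
    rw [F22.card]; change _ = 2 * 64561751654400; omega
  obtain ⟨τ, h⟩ := loc24' F h₁ ⟨h₂, hne.symm, hc⟩ F22
  obtain ⟨a, b, -, c, -, _, _, ⟨d⟩, -⟩ := tw_pack F22 simple_Fi22 (trD22 F22) (F22.S_all ▸ sepD22 F22) F.t3 (fun g _ => F.conj_mem g) (l := [F.e (10,[]), F.e (0,[])])
    (fun x => by simp only [List.forall_mem_cons]; exact ⟨fun h => ⟨h.1.1, h.1.2, h.2, nofun⟩, fun h => ⟨⟨h.1, h.2.1⟩, h.2.2.1⟩⟩) h (fun a ha => (oct24 F a (List.mem_append_left [_] ha)).mono fun _ h => h.1) List.mem_cons_self h₁ i nL hK'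
    (Z := zpowers (F.e (10,[]) * F.e (0,[]))) (fun W h => zpowers_le.2 (h _ (by simp))) (z ▸ k) (fun g hg => ⟨((hK' g).1 hg).1, fun a ha => by rwa [conj_eq_self.2 (((hK' g).1 hg).2 a ha)]⟩) le_rfl
  exact ⟨a, b, k.trans (congrArg (2 * ·) F22.card), l, j, z, ⟨(QuotientGroup.quotientMulEquivOfEq (by rw [← b]; exact (comap_map_eq_self_of_injective K.subtype_injective _).symm)).trans d⟩⟩

theorem pack3 {a b c : G} (h₁ : a ∈ F.D) (h₂ : b ∈ F.D) (h₃ : c ∈ F.D) (h12 : a ≠ b) (h13 : a ≠ c) (h23 : b ≠ c) (c12 : Commute a b) (c13 : Commute a c) (c23 : Commute b c)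
    {g : G} (hg : g ∈ L ⊓ centralizer {a, b, c}) (h : ∀ x ∈ L ⊓ centralizer {a, b, c}, Commute g x) : g = 1 ∨ g = a * b ∨ g = a * c ∨ g = a * b * (a * c) := by
  have := F.fin
  obtain ⟨F, e, rfl, rfl, rfl⟩ := t3_24 F h₁ h₂ h₃ h12 c12 h13 c13 h23 c23
  rw [← e] at h₁ h₂ h₃
  have nL := fun x (hx : x ∈ F.D) => FM.not_mem_two (trD24 F) i hx
  obtain ⟨M, hM⟩ : ∃ M, M = L ⊓ centralizer {F.e (10,[]), F.e (0,[]), F.e (2,[])} := ⟨_, rfl⟩
  have hK' : ∀ g, g ∈ M ↔ g ∈ L ∧ ∀ a ∈ [F.e (10,[]), F.e (0,[]), F.e (2,[])], Commute g a := fun g => by simp [hM, mem_cent]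
  have o : ∀ {x y}, x ∈ F.D → y ∈ F.D → x ≠ y → Commute x y → x * y * (x * y) = 1 ∧ x * y ≠ 1 := fun h₁ h₂ n c =>
    ⟨by rw [c.symm.mul_mul_mul_comm, F.t3.sq _ h₁, F.t3.sq _ h₂, mul_one], fun e => n (by rw [eq_inv_of_mul_eq_one_left e, F.t3.inv h₂])⟩
  have z := card_pair (o h₁ h₂ h12 c12).1 (o h₁ h₃ h13 c13).1 (((Commute.refl _).mul_right c13).mul_left (c12.symm.mul_right c23))
    (o h₁ h₂ h12 c12).2 (o h₁ h₃ h13 c13).2 fun e => h23 (mul_left_cancel e)
  have k : Nat.card M = 4 * Nat.card H8.U62.P := by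
    have := card_inf_two i (C := centralizer {F.e (10,[]), F.e (0,[]), F.e (2,[])}) (mem_cent.2 (by simp [c12, c13])) (nL _ h₁)
    rw [← hM, ← top_inf_eq (centralizer _), ← F.PS3, cd3_24] at this
    rw [FU.card]; change _ = 4 * 9196830720; omega
  obtain ⟨τ, t⟩ := loc24' F h₁ ⟨h₂, h12.symm, c12⟩ F22
  obtain ⟨σ, t⟩ := t.down (fun d hd => (loc22 F22 FU d hd).cc) (y := F.e (2,[])) ⟨⟨h₃, h13.symm, c13⟩, h23.symm, c23⟩
  obtain ⟨-, a', -⟩ := tw_pack FU (simpleU FU) (trU FU) (sepU FU) F.t3 (fun g _ => F.conj_mem g) (l := [F.e (10,[]), F.e (0,[]), F.e (2,[])])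
    (fun x => by simp only [List.forall_mem_cons]; exact ⟨fun h => ⟨h.1.1.1, h.1.1.2, h.1.2, h.2, nofun⟩, fun h => ⟨⟨⟨h.1, h.2.1⟩, h.2.2.1⟩, h.2.2.2.1⟩⟩) t (oct24 F) List.mem_cons_self h₁ i nL hK'
    (fun W h => (closure_le _).2 (Set.pair_subset (h _ (by simp)) (h _ (by simp)))) (z.1 ▸ k)
    (fun g hg => ⟨((hK' g).1 hg).1, fun a ha => by rwa [conj_eq_self.2 (((hK' g).1 hg).2 a ha)]⟩) le_rfl
  rw [← hM] at hg h
  exact z.2 g (a'.le ⟨⟨g, hg⟩, mem_center_iff.2 fun x => Subtype.ext (h x x.2).symm, rfl⟩)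

theorem ev24 {p q : G} (hp : p ∈ F.D) (hq : q ∈ F.D) : p * q ∈ L :=
  (mul_mem_iff_of_index_two i).2 (iff_of_false (FM.not_mem_two (trD24 F) i hp) (FM.not_mem_two (trD24 F) i hq))

omit i in
theorem fix3 {a b c g : G} (h₁ : a ∈ F.D) (h₂ : b ∈ F.D) (h₃ : c ∈ F.D) (h12 : a ≠ b) (h13 : a ≠ c) (h23 : b ≠ c) (c12 : Commute a b) (c13 : Commute a c)
    (c2 : Commute g (a * b)) (c3 : Commute g (a * c)) : g ∈ centralizer {a, b, c} := by
  have m2 := (fac2 h₁ h₂ h12 c12).inv (fun g _ => F.conj_mem g) (uq24 F (by decide)) c2 _ List.mem_cons_self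
  have m3 := (fac2 h₁ h₃ h13 c13).inv (fun g _ => F.conj_mem g) (uq24 F (by decide)) c3 _ List.mem_cons_self
  simp only [List.mem_cons, List.not_mem_nil, or_false] at m2 m3
  have c1 := conj_eq_self.1 (m2.elim id fun a => m3.elim id fun b => absurd (a.symm.trans b) h23)
  exact mem_cent.2 (by simpa using ⟨c1, by simpa [F.t3.cancel h₁] using c1.mul_right c2, by simpa [F.t3.cancel h₁] using c1.mul_right c3⟩)

theorem real2 {a b c : G} (h₁ : a ∈ F.D) (h₂ : b ∈ F.D) (h₃ : c ∈ F.D) (h12 : a ≠ b) (h13 : a ≠ c) (h23 : b ≠ c) (c12 : Commute a b) (c13 : Commute a c) (c23 : Commute b c)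
    (α : MulAut L) (h : α ⟨_, ev24 F i h₁ h₂⟩ = ⟨_, ev24 F i h₁ h₂⟩) : ∃ g ∈ L ⊓ centralizer {a * b}, ∀ k : L, k.1 ∈ centralizer {a, b} → (α k : G) = g * k * g⁻¹ := by
  have := F.fin
  obtain ⟨K, hK⟩ : ∃ K, K = L ⊓ centralizer {a, b} := ⟨_, rfl⟩
  obtain ⟨q, z, k, l, j, o, ⟨e⟩⟩ := pack2 F i h₁ h₂ h12 c12 hK
  obtain ⟨β, b'⟩ := aut_res (z := ⟨_, ev24 F i h₁ h₂⟩) rfl (comm_two l j q.1.1) (l.trans inf_le_left) α h
  have c1 : Nat.card (MulAut K) ≤ 129123503308800 := by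
    have := F22.fin
    refine (Nat.card_le_card_of_injective _ (qAut_inj q.1.1)).trans ?_
    rw [Nat.card_congr (MulAut.congr e).toEquiv, card_eq_card_quotient_mul_card_subgroup (Cfsg.Inn _), Cfsg.Agent.S2079.result]
    exact Nat.mul_le_mul_left 2 ((Nat.card_le_card_of_surjective _ (MonoidHom.rangeRestrict_surjective _)).trans (F22.card.le : _ ≤ 64561751654400))
  have c2 : Nat.card ↥(L ⊓ centralizer {a * b} ⊓ centralizer K) ≤ 2 := o ▸ card_le_of_le fun x hx => by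
    have := mem_cent.1 (fix3 F h₁ h₂ h₃ h12 h13 h23 c12 c13 (mem_centralizer_singleton_iff.1 hx.1.2) (mem_cent.1 hx.2 _ (hK.ge ⟨ev24 F i h₁ h₃, mem_cent.2 (by
      simpa using ⟨(Commute.refl _).mul_left c13.symm, c12.mul_left c23.symm⟩)⟩)))
    exact z ▸ ⟨⟨x, hK.ge ⟨hx.1.1, mem_cent.2 fun y hy => this y (hy.imp_right Or.inl)⟩⟩, mem_center_iff.2 fun y => Subtype.ext (hx.2 y y.2), rfl⟩
  have c3 := (K.subgroupOf (L ⊓ centralizer {a * b})).card_mul_index
  rw [j, Nat.card_congr (subgroupOfEquivOfLe l).toEquiv, k] at c3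
  obtain ⟨g, hg, t⟩ := aut_real ((normal_subgroupOf_iff_le_normalizer l).1 (normal_of_index_eq_two j)) ((Nat.mul_le_mul c1 c2).trans c3.le) β
  exact ⟨g, hg, fun k hk => (b' ⟨k, hK.ge ⟨k.2, hk⟩⟩).symm.trans (t _)⟩

theorem step2 {a b c : G} (h₁ : a ∈ F.D) (h₂ : b ∈ F.D) (h₃ : c ∈ F.D) (h12 : a ≠ b) (h13 : a ≠ c) (h23 : b ≠ c) (c12 : Commute a b) (c13 : Commute a c) (c23 : Commute b c)
    (α : MulAut L) (h : ∀ k : L, k.1 ∈ centralizer {a, b, c} → α k = k) : ∃ g, (g = 1 ∨ g = c) ∧ ∀ k : L, k.1 ∈ centralizer {a, b} → (α k : G) = g * k * g⁻¹ := by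
  have m : ∀ {x y}, x ∈ ({a, b, c} : Set G) → y ∈ ({a, b, c} : Set G) → x * y ∈ centralizer {a, b, c} := fun hx hy => by
    have : ({a, b, c} : Set G) ⊆ centralizer {a, b, c} := by simp [Set.insert_subset_iff, mem_cent, c12, c13, c23, c12.symm, c13.symm, c23.symm]
    exact mul_mem (this hx) (this hy)
  obtain ⟨g, hg, t⟩ := real2 F i h₁ h₂ h₃ h12 h13 h23 c12 c13 c23 α (h _ (m (by simp) (by simp)))
  have s : ∀ x ∈ L ⊓ centralizer {a, b, c}, Commute g x := fun x hx => conj_eq_self.1 ((t ⟨x, hx.1⟩ (centralizer_le (by simp [Set.insert_subset_iff]) hx.2)).symm.trans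
    (congrArg Subtype.val (h ⟨x, hx.1⟩ hx.2)))
  have u : ∀ k ∈ centralizer {a, b}, a * c * k * (a * c)⁻¹ = c * k * c⁻¹ := fun k hk => by
    rw [c13.eq, show c * a * k * (c * a)⁻¹ = c * (a * k * a⁻¹) * c⁻¹ by group, conj_eq_self.2 (hk a (by simp))]
  rcases pack3 F i h₁ h₂ h₃ h12 h13 h23 c12 c13 c23 ⟨hg.1, fix3 F h₁ h₂ h₃ h12 h13 h23 c12 c13 (mem_centralizer_singleton_iff.1 hg.2)
    (s _ ⟨ev24 F i h₁ h₃, m (by simp) (by simp)⟩)⟩ s with rfl | rfl | rfl | rfl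
  · exact ⟨1, .inl rfl, t⟩
  · exact ⟨1, .inl rfl, fun k hk => (t k hk).trans (by simpa using conj_eq_self.2 (Commute.mul_left (hk a (by simp)) (hk b (by simp))))⟩
  · exact ⟨c, .inr rfl, fun k hk => (t k hk).trans (u k hk)⟩
  · refine ⟨c, .inr rfl, fun k hk => (t k hk).trans ?_⟩
    rw [(((Commute.refl a).mul_left c12.symm).mul_right (c13.mul_left c23)).eq,
      show a * c * (a * b) * k * (a * c * (a * b))⁻¹ = a * c * (a * b * k * (a * b)⁻¹) * (a * c)⁻¹ by group,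
      conj_eq_self.2 (Commute.mul_left (hk a (by simp)) (hk b (by simp))), u k hk]

theorem cls2 {a b : G} (h₁ : a ∈ F.D) (h₂ : b ∈ F.D) (h12 : a ≠ b) (c12 : Commute a b) (α : MulAut L) : ∃ g, (α ⟨_, ev24 F i h₁ h₂⟩ : G) = g * (a * b) * g⁻¹ := by
  have := F.fin
  obtain ⟨-, -, k, l, -, o, -⟩ := pack2 F i h₁ h₂ h12 c12 rfl
  have sq : a * b * (a * b) = 1 := by rw [c12.symm.mul_mul_mul_comm, F.t3.sq _ h₁, F.t3.sq _ h₂, mul_one]
  set z : L := ⟨_, ev24 F i h₁ h₂⟩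
  obtain ⟨n, hn, p⟩ := inv24 F (α z) (by rw [← coe_mul, ← map_mul, show z * z = 1 from Subtype.ext sq, map_one, coe_one])
  have nL := fun x (hx : x ∈ F.D) => FM.not_mem_two (trD24 F) i hx
  interval_cases n
  · have := congrArg Subtype.val (α.map_eq_one_iff.1 (Subtype.ext (Pr.zero.1 p)))
    exact absurd (by rw [eq_inv_of_mul_eq_one_left this, F.t3.inv h₂]) h12
  · exact absurd (α z).2 (nL _ (Pr.one.1 p))
  · exact (isConj_iff.1 (((cls24 F 2 (by decide) (by decide)).2.1 _ (fac2 h₁ h₂ h12 c12 |>.imp_right (by simp) |> fun f => ⟨_, f⟩)).trans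
      ((cls24 F 2 (by decide) (by decide)).2.1 _ p).symm)).imp fun _ => Eq.symm
  · obtain ⟨l, -, e, d, -, p⟩ := p
    obtain ⟨x, y, w, rfl⟩ := List.length_eq_three.1 e
    simp only [List.forall_mem_cons] at d
    exact absurd ((mul_mem_cancel_right (ev24 F i d.2.1 d.2.2.1)).1 (by simpa [← p] using (α z).2)) (nL _ d.1)
  · have c := ((cm_conj (fun g _ => F.conj_mem g) ((cls24 F 4 (by decide) le_rfl).2.1 _ p)).trans (cls24 F 4 (by decide) le_rfl).2.2.1)
    obtain ⟨l, nd, e, d, cm, p⟩ := p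
    obtain ⟨x, l, rfl⟩ := List.exists_cons_of_length_eq_add_one e
    obtain ⟨y, w, v, rfl⟩ := List.length_eq_three.1 (Nat.succ.inj e)
    have f : Fac F.D [y, w, v] 3 (x⁻¹ * α z) := ⟨nd.of_cons, rfl, fun a h => d a (.tail _ h), fun a h b k => cm a (.tail _ h) b (.tail _ k), by simp [← p]⟩
    have hx : Commute x (α z) := p ▸ Commute.list_prod_right _ _ (cm x (.head _))
    set C := centralizer {(α z : G)}
    have s : ∀ H ≤ C ⊓ centralizer {x}, ∀ t ∈ [y, w, v], Nat.card H ≤ 3 * Nat.card ↥(H ⊓ centralizer {t}) := fun H l t ht =>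
      (card_step_le H (A := {y, w, v}) fun g hg => by simpa using f.inv (fun g _ => F.conj_mem g) (uq24 F le_rfl) (Commute.mul_right
        (Commute.inv_right (mem_centralizer_singleton_iff.1 (l hg).2)) (mem_centralizer_singleton_iff.1 (l hg).1)) t ht).trans
        (Nat.mul_le_mul_right _ ((Set.ncard_insert_le _ _).trans (Nat.succ_le_succ ((Set.ncard_insert_le _ _).trans (by simp)))))
    have s0 := card_step_le C (c := x) (A := Cm F.D (α z)) fun g hg => ⟨F.conj_mem g (d x (.head _)), by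
      simpa [conj_eq_self.2 (mem_centralizer_singleton_iff.1 hg)] using (conj_comm g).2 hx.symm⟩
    have s1 := s _ le_rfl y (by simp)
    have s2 := s _ (inf_le_left (b := centralizer {y})) w (by simp)
    have s3 := s _ ((inf_le_left (b := centralizer {w})).trans (inf_le_left (b := centralizer {y}))) v (by simp)
    simp only [List.nodup_cons, List.mem_cons, not_or, forall_eq_or_imp] at d cm nd
    obtain ⟨F', -, e1, e2, e3, e4⟩ := t4_24 F d.1 d.2.1 d.2.2.1 d.2.2.2.1 nd.1.1 cm.1.2.1 nd.1.2.1 cm.1.2.2.1 nd.2.1.1 cm.2.1.2.2.1 nd.1.2.2.1 cm.1.2.2.2.1 nd.2.1.2.1 cm.2.1.2.2.2.1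
      nd.2.2.1.1 cm.2.2.1.2.2.2.1
    have s4 : Nat.card ↥(C ⊓ centralizer {x} ⊓ centralizer {y} ⊓ centralizer {w} ⊓ centralizer {v}) ≤ 106168320 := cd4_24 F' ▸ card_le_of_le fun g hg =>
      FM.mem_PS.2 ⟨mem_top _, by simpa [e1, e2, e3, e4] using ⟨hg.2 _ rfl, hg.1.2 _ rfl, hg.1.1.2 _ rfl, hg.1.1.1.2 _ rfl⟩⟩
    have s5 : 129123503308800 ≤ Nat.card C := k ▸ Nat.card_le_card_of_injective (fun g => ⟨α ⟨g, g.2.1⟩, mem_centralizer_singleton_iff.2 (by
      rw [← coe_mul, ← map_mul, show (⟨g, g.2.1⟩ : L) * z = z * ⟨g, g.2.1⟩ from Subtype.ext (mem_centralizer_singleton_iff.1 (l g.2).2), map_mul, coe_mul])⟩)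
      fun x y e => Subtype.ext (Subtype.mk.inj (α.injective (Subtype.ext (Subtype.mk.inj e))))
    rw [c.trans (rfl : _ = 504)] at s0
    omega

omit i in
theorem gen24 : force (P24.orb ([(0,[]), (2,[]), (3,[]), (4,[]), (5,[]), (6,[]), (8,[]), (9,[]), (10,[])] ++ ([(7,[])] ++ [(1,[]), (11,[])])) 7
    (P24.bm ([(0,[]), (2,[]), (3,[]), (4,[]), (5,[]), (6,[]), (8,[]), (9,[]), (10,[])] ++ ([(7,[])] ++ [(1,[]), (11,[])])))) (fun m => allLt (fun a => tb m (P24.lp a)) 14) = true := by decide +kernel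

include F in
theorem aut24 [L.Normal] (α : MulAut L) : α ∈ (MulAut.conjNormal (H := L)).range := by
  have ad : ∀ (α : MulAut L) (g : G) (k : L), (α k : G) = g * k * g⁻¹ → ((MulAut.conjNormal g)⁻¹ * α : MulAut L) k = k := fun α g k h =>
    Subtype.ext (by rw [MulAut.mul_apply, MulAut.conjNormal_inv_apply, h]; group)
  have rg : ∀ (α : MulAut L) g, (MulAut.conjNormal g)⁻¹ * α ∈ (MulAut.conjNormal (H := L)).range → α ∈ (MulAut.conjNormal (H := L)).range := fun α g =>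
    (mul_mem_cancel_left (inv_mem (MonoidHom.mem_range.2 ⟨g, rfl⟩))).1
  obtain ⟨-, n, d, c⟩ := F.chL_spec (qs := [(0,[]), (8,[]), (9,[])]) (m := P24.all) (by decide +kernel)
  simp only [List.map_cons, List.map_nil, List.nodup_cons, List.mem_cons, not_or, forall_eq_or_imp, F.S_all] at n d c
  obtain ⟨h₁, h₂, h₃, -⟩ := d
  obtain ⟨⟨h12, h13, -⟩, ⟨h23, -⟩, -⟩ := n
  obtain ⟨⟨-, c12, c13, -⟩, ⟨-, -, c23, -⟩, -⟩ := c
  obtain ⟨g, e⟩ := cls2 F i h₁ h₂ h12 c12 α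
  refine rg _ g ?_
  obtain ⟨g, -, e⟩ := real2 F i h₁ h₂ h₃ h12 h13 h23 c12 c13 c23 _ (ad α g _ e)
  refine rg _ g ?_
  replace e := fun k h => ad _ g k (e k h)
  generalize _ * (_ * α) = α at e ⊢
  obtain ⟨g, o, e2⟩ := step2 F i h₁ h₃ h₂ h13 h12 (Ne.symm h23) c13 c12 c23.symm α fun k h => e k (centralizer_le (by simp [Set.insert_subset_iff]) h)
  refine rg _ g ?_
  replace e2 := fun k h => ad _ g k (e2 k h)
  replace e := fun k h => ad _ g k ((congrArg Subtype.val (e k h)).trans (conj_eq_self.2 (by rcases o with rfl | rfl; exacts [Commute.one_left _, h _ (by simp)])).symm)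
  generalize _ * α = α at e e2 ⊢
  obtain ⟨g, o, e3⟩ := step2 F i h₂ h₃ h₁ h23 (Ne.symm h12) (Ne.symm h13) c23 c12.symm c13.symm α fun k h => e k (centralizer_le (by simp [Set.insert_subset_iff]) h)
  refine rg _ g ?_
  replace e3 := fun k h => ad _ g k (e3 k h)
  replace e := fun k h => ad _ g k ((congrArg Subtype.val (e k h)).trans (conj_eq_self.2 (by rcases o with rfl | rfl; exacts [Commute.one_left _, h _ (by simp)])).symm)
  replace e2 := fun k h => ad _ g k ((congrArg Subtype.val (e2 k h)).trans (conj_eq_self.2 (by rcases o with rfl | rfl; exacts [Commute.one_left _, h _ (by simp)])).symm)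
  generalize _ * α = α at e e2 e3 ⊢
  let M := (α.toMonoidHom.eqLocus (MonoidHom.id L)).map L.subtype
  have s := F.t3.sq _ h₁
  have k : ∀ g ∈ closure {x | F.e (0,[]) * x ∈ M ∧ x * F.e (0,[]) ∈ M}, g ∈ M ∧ F.e (0,[]) * g * F.e (0,[]) ∈ M ∨ F.e (0,[]) * g ∈ M ∧ g * F.e (0,[]) ∈ M := fun g hg => by
    induction hg using closure_induction with
    | mem x h => exact .inr h
    | one => exact .inl ⟨one_mem _, by simp [s]⟩
    | mul x y _ _ p q =>
      have t : ∀ y, F.e (0,[]) * (F.e (0,[]) * y) = y := fun y => by rw [← mul_assoc, s, one_mul]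
      rcases p with p | p <;> rcases q with q | q
      exacts [.inl ⟨mul_mem p.1 q.1, by simpa [mul_assoc, t] using mul_mem p.2 q.2⟩, .inr ⟨by simpa [mul_assoc, t] using mul_mem p.2 q.1, by simpa [mul_assoc] using mul_mem p.1 q.2⟩,
        .inr ⟨by simpa [mul_assoc] using mul_mem p.1 q.1, by simpa [mul_assoc, t] using mul_mem p.2 q.2⟩, .inl ⟨by simpa [mul_assoc, t] using mul_mem p.2 q.1, by simpa [mul_assoc] using mul_mem p.1 q.2⟩]
    | inv x _ p =>
      have t := F.t3.inv h₁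
      exact p.imp (fun p => ⟨inv_mem p.1, by simpa [mul_assoc, t] using inv_mem p.2⟩) fun p => ⟨by simpa [t] using inv_mem p.2, by simpa [t] using inv_mem p.1⟩
  have w : ∀ (a b : Pc) (l : List Pc), (∀ k : L, k.1 ∈ centralizer {F.e a, F.e b} → α k = k) → F.e (0,[]) ∈ centralizer {F.e a, F.e b} →
      band (allL P24.okq [a, b]) (P24.inq (P24.cmL P24.all [a, b]) l) = true → ∀ q ∈ l, P24.okq q = true ∧ F.e q ∈ closure {x | F.e (0,[]) * x ∈ M ∧ x * F.e (0,[]) ∈ M} := fun a b l e h o q hq => by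
    rw [band_eq, Bool.and_eq_true, allL_iff] at o
    have := F.inq_spec o.2 q hq
    have m := (F.mem_cmL o.1).1 this.2
    have c : F.e q ∈ centralizer {F.e a, F.e b} := by rintro _ (rfl | rfl) <;> exact m.2 _ (by simp)
    exact ⟨this.1, subset_closure ⟨⟨⟨_, ev24 F i h₁ (F.e_mem this.1)⟩, e _ (mul_mem h c), rfl⟩, ⟨⟨_, ev24 F i (F.e_mem this.1) h₁⟩, e _ (mul_mem c h), rfl⟩⟩⟩
  have q := List.forall_mem_append.2 ⟨w _ _ [(0,[]), (2,[]), (3,[]), (4,[]), (5,[]), (6,[]), (8,[]), (9,[]), (10,[])] e (mem_cent.2 (by simp [c12])) (by decide +kernel),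
    List.forall_mem_append.2 ⟨w _ _ [(7,[])] e2 (mem_cent.2 (by simp [c13])) (by decide +kernel), w _ _ [(1,[]), (11,[])] e3 (mem_cent.2 (by simp [c12, c13])) (by decide +kernel)⟩⟩
  have t := F.gen _ fun a ha => by
    obtain ⟨g, hg, e⟩ := F.orb q (r := 7) ((F.mem_S (F.hl a ha).1).2 (tb_eq _ _ ▸ allLt_iff.1 (force_eq _ _ ▸ gen24) a ha))
    obtain ⟨x, hx, e⟩ := List.mem_map.1 ((F.mem_bm fun x h => (q x h).1).1 e)
    simpa [e, (F.hl a ha).2, mul_assoc] using mul_mem (mul_mem (inv_mem hg) (q x hx).2) hg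
  refine ⟨1, (map_one _).trans (MulEquiv.ext fun x => ?_)⟩
  rcases k x (t.ge (mem_top _)) with p | p
  · obtain ⟨y, p, e⟩ := p.1
    exact (show y = x from Subtype.ext e) ▸ p.symm
  · exact absurd ((mul_mem_cancel_right x.2).1 (map_subtype_le _ p.1)) (FM.not_mem_two (trD24 F) i h₁)

end T
end H7
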