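import Cfsg.Agent.H7.TL6
import Cfsg.Agent.H7.Fac2
import Cfsg.Agent.H7.FM13

/-! H7.TL7: centralizers of involutions in the commutator subgroup of `Fi24`. -/

namespace H7
open Subgroup

universe u v
variable {G : Type u} [Group G] {G' : Type v} [Group G']

theorem Cc.tw {T : Set G'} {S : Set G} {τ : G' → G} (h : Cc T S τ) {d : G} (o : d * d = 1) (c : ∀ x ∈ S, Commute d x) (n : d ∉ S) :
    Cc T ((d * ·) '' S) fun x => d * τ x := by
  have k : ∀ x ∈ S, ∀ y ∈ S, d * x * (d * y) * (d * x) = d * (x * y * x) := fun x hx y hy => by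
    rw [(c x hx).symm.mul_mul_mul_comm, o, one_mul, ← mul_assoc, ← ((c x hx).mul_right (c y hy)).eq, mul_assoc]
  have t := h.t'
  refine ⟨h.t, ⟨?_, ?_, ?_, ?_⟩, (Set.InjOn.bijOn_image (mul_right_injective d).injOn).comp h.bij, fun x hx y hy => by rw [k _ (h.mem hx) _ (h.mem hy), h.cj x hx y hy]⟩
  · rintro _ ⟨x, hx, rfl⟩; simp only; rw [(c x hx).symm.mul_mul_mul_comm, o, t.sq x hx, one_mul]
  · rintro _ ⟨x, hx, rfl⟩ e; exact n (by rwa [eq_inv_of_mul_eq_one_left e, t.inv hx])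
  · rintro _ ⟨x, hx, rfl⟩ _ ⟨y, hy, rfl⟩
    exact (t.br x hx y hy).imp (fun e => ((Commute.refl d).mul_right (c y hy)).mul_left ((c x hx).symm.mul_right e)) fun e => by simp only; rw [k x hx y hy, k y hy x hx, e]
  · rintro _ ⟨x, hx, rfl⟩ _ ⟨y, hy, rfl⟩; exact ⟨_, t.cl x hx y hy, (k x hx y hy).symm⟩

theorem Pr.tw {S : Set G} {d g : G} (c : ∀ x ∈ S, Commute d x) {k : ℕ} (p : Pr S k g) : Pr ((d * ·) '' S) k (d ^ k * g) := by
  obtain ⟨l, a, rfl, b, e, rfl⟩ := p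
  refine ⟨l.map (d * ·), a.map (mul_right_injective d), by simp, List.forall_mem_map.2 fun x hx => ⟨x, b x hx, rfl⟩, List.forall_mem_map.2 fun x hx =>
    List.forall_mem_map.2 fun y hy => ((Commute.refl d).mul_right (c y (b y hy))).mul_left ((c x (b x hx)).symm.mul_right (e x hx y hy)), ?_⟩
  clear a e
  induction l with
  | nil => simp
  | cons x l ih => rw [List.map_cons, List.prod_cons, ih fun y hy => b y (List.mem_cons_of_mem _ hy), List.prod_cons, List.length_cons, pow_succ',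
      ((c x (b x List.mem_cons_self)).pow_left _).symm.mul_mul_mul_comm]

theorem card_inf_two [Finite G] {L C : Subgroup G} (i : L.index = 2) {d : G} (h : d ∈ C) (n : d ∉ L) : Nat.card C = 2 * Nat.card ↥(L ⊓ C) := by
  have a : L.relIndex C ∣ 2 := i ▸ have := normal_of_index_eq_two i; relIndex_dvd_index_of_normal L C
  rw [← (L.subgroupOf C).index_mul_card, ← subgroupOf_map_subtype, card_map_of_injective C.subtype_injective]
  exact congrArg (· * _) (((Nat.dvd_prime Nat.prime_two).1 a).resolve_left fun e => n (relIndex_eq_one.1 e h))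

theorem aut_quot [Finite G] {H K Z : Subgroup G} (l' : K ≤ H) (n : H ≤ normalizer (K : Set G)) [(Z.subgroupOf H).Normal] [(Z.subgroupOf K).Normal]
    (c : ∀ x ∈ H, (∀ k ∈ K, x * k * x⁻¹ * k⁻¹ ∈ Z) → x ∈ Z) {T : Type*} [Group T] (e : K ⧸ Z.subgroupOf K ≃* T)
    (k : Nat.card (MulAut T) ≤ Nat.card (H ⧸ Z.subgroupOf H)) : Nonempty (H ⧸ Z.subgroupOf H ≃* MulAut T) := by
  let f := (QuotientGroup.mk' (Z.subgroupOf H)).comp (inclusion l')
  have : f.range.Normal := ⟨by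
    rintro _ ⟨x, rfl⟩ g
    obtain ⟨g, rfl⟩ := QuotientGroup.mk_surjective g
    exact ⟨⟨_, (n g.2 x).1 x.2⟩, rfl⟩⟩
  refine aut_iso (S := f.range) (fun x hx => ?_) ((QuotientGroup.quotientKerEquivRange f).symm.trans ((QuotientGroup.quotientMulEquivOfEq
    (ext fun x => QuotientGroup.eq_one_iff _)).trans e)) k
  obtain ⟨x, rfl⟩ := QuotientGroup.mk_surjective x
  exact (QuotientGroup.eq_one_iff _).2 (c x x.2 fun k hk => (QuotientGroup.eq_one_iff (x * (⟨k, l' hk⟩ : H) * x⁻¹ * (⟨k, l' hk⟩ : H)⁻¹)).1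
    (commutatorElement_eq_one_iff_commute.2 (hx _ ⟨⟨k, hk⟩, rfl⟩)))

theorem tw_pack [Finite G] {P' : FD} (U : FM P' G') (s : IsSimpleGroup G') (tr : Tr2 (U.S P'.all)) (sp : Sep U.D) {D : Set G} (t : T3 D)
    (hc : ∀ g : G, ∀ x ∈ D, g * x * g⁻¹ ∈ D) {l : List G} {S : Set G} (hS : ∀ x, x ∈ S ↔ x ∈ D ∧ ∀ a ∈ l, x ≠ a ∧ Commute a x) {τ : G' → G} (h : Cc U.D S τ)
    (p : ∀ a ∈ l, Pr S 7 a) {d : G} (hd : d ∈ l) (dD : d ∈ D) {L K Z H : Subgroup G} (i : L.index = 2) (nL : ∀ x ∈ D, x ∉ L) (hK : ∀ g, g ∈ K ↔ g ∈ L ∧ ∀ a ∈ l, Commute g a)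
    (z : ∀ W : Subgroup G, (∀ a ∈ l, d * a ∈ W) → Z ≤ W) (n : Nat.card K = Nat.card Z * Nat.card G') (hH : ∀ g ∈ H, g ∈ L ∧ ∀ a ∈ l, g * a * g⁻¹ ∈ l) (kh : K ≤ H) :
    Cfsg.IsQuasisimple K ∧ (center K).map K.subtype = Z ∧ (Cfsg.generalizedFittingSubgroup H).map H.subtype = K ∧ Z ≤ K ∧ H ≤ normalizer (Z : Set G) ∧
      ∃ (_ : (Z.subgroupOf K).Normal) (_ : (Z.subgroupOf H).Normal), Nonempty (K ⧸ Z.subgroupOf K ≃* G') ∧
        (Nat.card (MulAut G') * Nat.card Z ≤ Nat.card H → Nonempty (H ⧸ Z.subgroupOf H ≃* MulAut G')) := by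
  have c : ∀ a ∈ l, ∀ x ∈ S, Commute a x := fun a ha x hx => (((hS x).1 hx).2 a ha).2
  have cl : ∀ a ∈ l, ∀ b ∈ l, Commute a b := fun a ha b hb => comm_closure (c a ha) (p b hb).mem
  have o := t.sq d dD
  have h' := h.tw o (c d hd) fun m => (((hS d).1 m).2 d hd).1 rfl
  have p' : ∀ a ∈ l, Pr ((d * ·) '' S) 7 (d * a) := fun a ha => by
    simpa [pow_succ, o] using (p a ha).tw (c d hd)
  have cz : ∀ x, (∀ a ∈ l, Commute a x) → ∀ y ∈ Z, Commute y x := fun x hx y hy =>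
    mem_centralizer_singleton_iff.1 (z _ (fun a ha => mem_centralizer_singleton_iff.2 ((hx d hd).mul_left (hx a ha))) hy)
  obtain ⟨rfl, k2⟩ := cent_gen (K := K) h' U.closure_D U.center_eq ((closure_le _).2 (by
      rintro _ ⟨x, hx, rfl⟩
      exact (hK _).2 ⟨(mul_mem_iff_of_index_two i).2 (iff_of_false (nL d dD) (nL x ((hS x).1 hx).1)), fun a ha => (cl d hd a ha).mul_left (c a ha x hx).symm⟩))
    (z _ fun a ha => (p' a ha).mem) (by rintro y hy _ ⟨x, hx, rfl⟩; exact cz _ (fun a ha => (cl a ha d hd).mul_right (c a ha x hx)) y hy) n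
  have q := h'.qs U s tr (by decide) (o ▸ p' d hd)
  have nl := normal_of_index_eq_two i
  have nk : H ≤ normalizer (closure ((d * ·) '' S) : Set G) := fun g hg => mem_normalizer_fintype fun x hx => (hK _).2 ⟨nl.conj_mem _ ((hK x).1 hx).1 g,
    fun a ha => by simpa [mul_assoc] using (conj_comm g).2 (((hK x).1 hx).2 _ ((hH _ (inv_mem hg)).2 a ha))⟩
  have cc : ∀ x ∈ H, (∀ k ∈ closure ((d * ·) '' S), x * k * x⁻¹ * k⁻¹ ∈ Z) → x ∈ Z := fun x hx e => by
    have a : ∀ y ∈ S, Commute x y := fun y hy => by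
      have i := (hH _ (inv_mem hx)).2
      refine (Sep.map h sp).cent hy ((hS _).2 ⟨hc _ _ ((hS y).1 hy).1, fun a ha => ⟨fun k => (((hS y).1 hy).2 _ (i a ha)).1 (by simp [← k, mul_assoc]),
        by simpa [mul_assoc] using (conj_comm x).2 (c _ (i a ha) y hy)⟩⟩) fun r hr => ?_
      have := ((c _ ((hH x hx).2 d hd) r hr).inv_left.mul_left (cz r (fun a ha => c a ha r hr) _ (e _ (subset_closure ⟨y, hy, rfl⟩)))).mul_left (c d hd r hr)
      simpa [mul_assoc] using this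
    have b : ∀ y ∈ l, Commute x y := fun y hy => comm_closure a (p y hy).mem
    exact k2 ▸ ⟨⟨x, (hK x).2 ⟨(hH x hx).1, b⟩⟩, mem_center_iff.2 fun g => Subtype.ext (comm_closure (by
      rintro _ ⟨y, hy, rfl⟩; exact (b d hd).mul_right (a y hy)) g.2).symm, rfl⟩
  have zk : Z ≤ closure ((d * ·) '' S) := k2 ▸ map_subtype_le _
  have e : Z.subgroupOf (closure ((d * ·) '' S)) = center _ := k2 ▸ comap_map_eq_self_of_injective (subtype_injective _) _
  have nz : H ≤ normalizer (Z : Set G) := fun g hg => mem_normalizer_fintype fun x hx => (SetLike.ext_iff.1 e ⟨_, (nk hg x).1 (zk hx)⟩).2 (mem_center_iff.2 fun y => Subtype.ext (by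
    have := congrArg Subtype.val (mem_center_iff.1 ((SetLike.ext_iff.1 e ⟨x, zk hx⟩).1 hx) ⟨_, (nk (inv_mem hg) y).1 y.2⟩)
    simpa [mul_assoc] using ((conj_comm g).2 (show Commute _ _ from this)).eq))
  have n1 : (Z.subgroupOf (closure ((d * ·) '' S))).Normal := e ▸ inferInstance
  have n2 := (normal_subgroupOf_iff_le_normalizer (zk.trans kh)).2 nz
  obtain ⟨f, -⟩ := h'.quot U.closure_D U.center_eq
  have f := (QuotientGroup.quotientMulEquivOfEq e).trans f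
  refine ⟨q, k2, (H9.Fst_eq _).trans (Lay_eq_of q kh nk fun x hx => zk (cc x hx.1 fun k hk => by simp [← hx.2 k hk])).2, zk, nz, n1, n2, ⟨f⟩, fun k => aut_quot kh nk cc f ?_⟩
  rw [(Z.subgroupOf H).card_eq_card_quotient_mul_card_subgroup, Nat.card_congr (subgroupOfEquivOfLe (zk.trans kh)).toEquiv] at k
  exact Nat.le_of_mul_le_mul_right k Nat.card_pos

end H7
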