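import Cfsg.Agent.H7.TL7

/-! H7.Two24: octads of transpositions in `Fi24`. -/

namespace H7.T
open Subgroup

universe u
variable {G : Type u} [Group G] (F : FM P24 G)

noncomputable def oc0 : List Pc := [(7,[]),(6,[]),(3,[12,7,11,12]),(2,[3,4,7,3]),(6,[12,7,11,12]),(2,[3,12,0,6,12,3]),(3,[7,12,6,10,12,3])]
noncomputable def oc1 : List Pc := [(7,[]),(6,[]),(3,[12,7,11,12]),(2,[3,4,7,3]),(0,[12,6,10,12,3]),(2,[13,5,6,13,1]),(0,[12,2,5,12,6,5])]
noncomputable def oc2 : List Pc := [(7,[]),(6,[]),(3,[12,7,11,12]),(3,[12,5,7,12]),(6,[12,7,11,12]),(0,[12,6,10,12,3]),(2,[12,6,5,12,3,11])]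

theorem pr7 {q : Pc} {qs : List Pc} (h : band (P24.okq q) (band (P24.chL qs (P24.dpL [(10,[]), (0,[]), (2,[])] P24.all)) (eqB P24.Ns P24.bs (tw q) (tws qs))) = true) :
    Pr (Dp (Dp (Dp F.D (F.e (10,[]))) (F.e (0,[]))) (F.e (2,[]))) qs.length (F.e q) := by
  simp only [band_eq, Bool.and_eq_true] at h
  exact F.S_dp3 (a := (10,[])) (b := (0,[])) (c := (2,[])) (by decide +kernel) (by decide +kernel) (by decide +kernel) ▸ F.ev_tw h.1 ▸ F.ev_eq h.2.2 ▸ F.pr h.2.1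

theorem oct24 : ∀ a ∈ [F.e (10,[]), F.e (0,[]), F.e (2,[])], Pr (Dp (Dp (Dp F.D (F.e (10,[]))) (F.e (0,[]))) (F.e (2,[]))) 7 a := by
  simp only [List.forall_mem_cons]
  exact ⟨pr7 F (qs := oc0) (by decide +kernel), pr7 F (qs := oc1) (by decide +kernel), pr7 F (qs := oc2) (by decide +kernel), nofun⟩

end H7.T
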